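import Groth.Agent.AbDualLib.Prim
import Groth.Agent.AVLib.GeomInt
import Groth.Prelude.Def_Red

/-!
# Transposes of homomorphisms of abelian schemes
-/

set_option autoImplicit false
set_option backward.isDefEq.respectTransparency false
set_option linter.style.haveILetI false
set_option linter.unusedSectionVars false

universe u

open CategoryTheory CategoryTheory.Limits MonoidalCategory CartesianMonoidalCategory MonObj AlgebraicGeometry
open Groth.Agent.PicLib
open Groth.Agent.AmpleLib (isInvertible_pullback isInvertible_tensor)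
open Groth.Agent.ParaFLib (isInvertible_structureModule exists_gen_nhd)

noncomputable section

namespace Groth.Agent.AbDualLib

variable {S : Scheme.{u}}

/-- An abelian scheme is geometrically integral. -/
theorem geometricallyIntegral_of_smooth (X : Over S) [GrpObj X] [Smooth X.hom] [GeometricallyConnected X.hom] :
    GeometricallyIntegral X.hom := by
  refine ⟨fun L _ y Z fst' snd' H => ?_⟩
  let G := Red.bc y X
  haveI : Smooth G.hom := MorphismProperty.pullback_snd X.hom y ‹Smooth X.hom›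
  haveI : GeometricallyConnected G.hom := MorphismProperty.pullback_snd X.hom y ‹GeometricallyConnected X.hom›
  haveI : GeometricallyIntegral G.hom := AVLib.geometricallyIntegral_of_smooth G
  haveI : Subsingleton ↥(Spec (CommRingCat.of L)) := inferInstanceAs (Subsingleton (PrimeSpectrum L))
  haveI : IsIntegral (pullback X.hom y) := GeometricallyIntegral.isIntegral_of_subsingleton G.hom
  exact .of_isIso H.isoPullback.inv

/-- The class in `PicF.Cl` of an element of the Picard group. -/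
def toCl {Y : Scheme.{u}} : Pic Y → PicF.Cl Y :=
  Quotient.lift (fun L => PicF.cl L.1) fun _ _ h => Quot.sound h

theorem toCl_pull {Y Y' : Scheme.{u}} (g : Y' ⟶ Y) (a : Pic Y) : toCl (pull g a) = PicF.pullCl g (toCl a) := by
  obtain ⟨L, hL, rfl⟩ := exists_cls a
  rfl

theorem nonempty_iso_of_cl_eq {Y : Scheme.{u}} {L M : Y.Modules} (h : PicF.cl L = PicF.cl M) : Nonempty (L ≅ M) := by
  have h' := Quot.eqvGen_exact h
  clear h
  induction h' with
  | rel _ _ h₀ => exact h₀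
  | refl _ => exact ⟨Iso.refl _⟩
  | symm _ _ _ h₀ => exact h₀.map Iso.symm
  | trans _ _ _ _ _ h₁ h₂ => obtain ⟨e⟩ := h₁; obtain ⟨e'⟩ := h₂; exact ⟨e ≪≫ e'⟩

theorem toCl_injective {Y : Scheme.{u}} : Function.Injective (toCl : Pic Y → PicF.Cl Y) := by
  intro a b h
  obtain ⟨L, hL, rfl⟩ := exists_cls a
  obtain ⟨M, hM, rfl⟩ := exists_cls b
  exact (cls_eq_cls _ _).2 (nonempty_iso_of_cl_eq h)

theorem algEquivZero_congr {Ω : Type u} [Field Ω] {V : Scheme.{u}} [V.Over (Spec (CommRingCat.of Ω))] {L M : V.Modules}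
    (e : L ≅ M) (h : Pic13.IsAlgEquivZero Ω V L) : Pic13.IsAlgEquivZero Ω V M := by
  obtain ⟨T, q, hc, h1, h2, F, hF, t, t₀, ht, ht₀, ⟨eL⟩, hO⟩ := h
  exact ⟨T, q, hc, h1, h2, F, hF, t, t₀, ht, ht₀, ⟨eL ≪≫ e⟩, hO⟩

/-- Algebraic equivalence to zero pulls back. -/
theorem algEquivZero_pullback {Ω : Type u} [Field Ω] {V W : Scheme.{u}} [V.Over (Spec (CommRingCat.of Ω))]
    [W.Over (Spec (CommRingCat.of Ω))] (j : V ⟶ W)
    (hj : j ≫ (W ↘ Spec (CommRingCat.of Ω)) = V ↘ Spec (CommRingCat.of Ω)) {L : W.Modules}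
    (h : Pic13.IsAlgEquivZero Ω W L) : Pic13.IsAlgEquivZero Ω V ((Scheme.Modules.pullback j).obj L) := by
  obtain ⟨T, q, hc, h1, h2, F, hF, t, t₀, ht, ht₀, ⟨eL⟩, ⟨eO⟩⟩ := h
  let jT : Pic13.prodK Ω V q ⟶ Pic13.prodK Ω W q := pullback.lift (pullback.fst _ q ≫ j) (pullback.snd _ q) (by
    rw [Category.assoc, hj]; exact pullback.condition)
  have hs : ∀ (s : Spec (CommRingCat.of Ω) ⟶ T) (hs : s ≫ q = 𝟙 _),
      Pic13.sliceAt Ω V q s hs ≫ jT = j ≫ Pic13.sliceAt Ω W q s hs := fun s hs => by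
    apply pullback.hom_ext <;> simp [jT, Pic13.sliceAt, reassoc_of% hj]
    exact Category.id_comp _
  have he : ∀ (s : Spec (CommRingCat.of Ω) ⟶ T) (hs' : s ≫ q = 𝟙 _),
      Nonempty (Pic13.fibreMod Ω V q s hs' ((Scheme.Modules.pullback jT).obj F) ≅
        (Scheme.Modules.pullback j).obj (Pic13.fibreMod Ω W q s hs' F)) := fun s hs' =>
    ⟨(Scheme.Modules.pullbackComp _ _).app F ≪≫
      eqToIso (congrArg (fun m => (Scheme.Modules.pullback m).obj F) (hs s hs')) ≪≫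
      ((Scheme.Modules.pullbackComp _ _).app F).symm⟩
  obtain ⟨e₁⟩ := he t ht
  obtain ⟨e₀⟩ := he t₀ ht₀
  exact ⟨T, q, hc, h1, h2, _, isInvertible_pullback jT hF, t, t₀, ht, ht₀,
    ⟨e₁ ≪≫ (Scheme.Modules.pullback j).mapIso eL⟩,
    ⟨e₀ ≪≫ (Scheme.Modules.pullback j).mapIso eO ≪≫ AmpleLib.pullO j⟩⟩

/-- Algebraic triviality on geometric fibres pulls back. -/
theorem algTrivialAt_pullback {V V' B B' : Scheme.{u}} (f : V ⟶ B) (f' : V' ⟶ B') (a : V' ⟶ V) (g : B' ⟶ B)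
    (w : a ≫ f = f' ≫ g) {L : V.Modules} {z : B'} (h : AbDual.IsAlgTrivialAt f L (g z)) :
    AbDual.IsAlgTrivialAt f' ((Scheme.Modules.pullback a).obj L) z := by
  intro Ω _ _ σ hσ
  have hr : Set.range (σ ≫ g).base = {g z} := by
    show Set.range (fun x => g (σ x)) = {g z}
    rw [Set.range_comp' g σ]
    exact (congrArg (g '' ·) hσ).trans Set.image_singleton
  letI : (pullback f (σ ≫ g)).Over (Spec (CommRingCat.of Ω)) := ⟨pullback.snd f (σ ≫ g)⟩
  letI : (pullback f' σ).Over (Spec (CommRingCat.of Ω)) := ⟨pullback.snd f' σ⟩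
  let j : pullback f' σ ⟶ pullback f (σ ≫ g) := pullback.lift (pullback.fst f' σ ≫ a) (pullback.snd f' σ) (by
    rw [Category.assoc, w, pullback.condition_assoc])
  refine algEquivZero_congr ?_ (algEquivZero_pullback j (pullback.lift_snd _ _ _) (h Ω (σ ≫ g) hr))
  exact (Scheme.Modules.pullbackComp _ _).app L ≪≫
    eqToIso (congrArg (fun m => (Scheme.Modules.pullback m).obj L) (pullback.lift_fst _ _ _)) ≪≫
    ((Scheme.Modules.pullbackComp _ _).app L).symm

variable {X Y : Over S}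

/-- A class algebraically trivial on geometric fibres. -/
def IsPZ (X T : Over S) (a : Pic (PicF.XT X.hom T)) : Prop := AbDual.IsPicZeroCl X.hom T (toCl a)

theorem isPZ_cls_iff {T : Over S} {L : (PicF.XT X.hom T).Modules} (hL : PicF.IsInvertible L) :
    IsPZ X T (cls hL) ↔ ∀ t : T.left, AbDual.IsAlgTrivialAt (PicF.XTproj X.hom T) L t := by
  refine ⟨fun ⟨M, hM, _, h⟩ t Ω _ _ σ hσ => ?_, fun h => ⟨L, rfl, hL, h⟩⟩
  obtain ⟨e⟩ := nonempty_iso_of_cl_eq hM
  exact @algEquivZero_congr Ω _ _ ⟨pullback.snd (PicF.XTproj X.hom T) σ⟩ _ _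
    ((Scheme.Modules.pullback _).mapIso e) (h t Ω σ hσ)

theorem isPZ_pull {X' : Over S} {T T' : Over S} (a : PicF.XT X'.hom T' ⟶ PicF.XT X.hom T) (g : T' ⟶ T)
    (w : a ≫ PicF.XTproj X.hom T = PicF.XTproj X'.hom T' ≫ g.left) {c : Pic (PicF.XT X.hom T)} (h : IsPZ X T c) :
    IsPZ X' T' (pull a c) := by
  obtain ⟨L, hL, rfl⟩ := exists_cls c
  rw [pull_cls, isPZ_cls_iff]
  exact fun t => algTrivialAt_pullback _ _ a g.left w ((isPZ_cls_iff hL).1 h (g.left t))

theorem isPZ_pull_XTmap {T T' : Over S} (g : T' ⟶ T) {c : Pic (PicF.XT X.hom T)} (h : IsPZ X T c) :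
    IsPZ X T' (pull (PicF.XTmap X.hom g) c) :=
  isPZ_pull _ g (isPullback_XTmap X.hom g).w h

theorem isPZ_pull_bcMap (f : Y ⟶ X) {T : Over S} {c : Pic (PicF.XT X.hom T)} (h : IsPZ X T c) :
    IsPZ Y T (pull (AbDual.bcMap f T) c) :=
  isPZ_pull _ (𝟙 T) (by rw [bcMap_snd]; exact (Category.comp_id _).symm) h

/-- Classes from the base do not matter. -/
theorem isPZ_mul_base {T : Over S} {c : Pic (PicF.XT X.hom T)} (h : IsPZ X T c) (N : Pic T.left) :
    IsPZ X T (c * pull (PicF.XTproj X.hom T) N) := by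
  obtain ⟨L, hL, rfl⟩ := exists_cls c
  obtain ⟨M, hM, rfl⟩ := exists_cls N
  rw [pull_cls, ← cls_tensor hL (isInvertible_pullback _ hM), isPZ_cls_iff]
  intro t Ω _ _ σ hσ
  letI : (pullback (PicF.XTproj X.hom T) σ).Over (Spec (CommRingCat.of Ω)) :=
    ⟨pullback.snd (PicF.XTproj X.hom T) σ⟩
  refine algEquivZero_congr ?_ ((isPZ_cls_iff hL).1 h t Ω σ hσ)
  refine ((cls_eq_cls (isInvertible_pullback _ hL)
    (isInvertible_pullback _ (isInvertible_tensor hL (isInvertible_pullback _ hM)))).1 ?_).some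
  rw [← pull_cls _ hL, ← pull_cls _ (isInvertible_tensor hL (isInvertible_pullback _ hM)), cls_tensor hL (isInvertible_pullback _ hM), map_mul,
    ← pull_cls _ hM, ← pull_comp, pullback.condition, pull_comp]
  haveI : IsLocalRing (CommRingCat.of Ω) := inferInstanceAs (IsLocalRing Ω)
  rw [show pull σ (cls hM) = 1 from eq_one_of_local (R := CommRingCat.of Ω) _, map_one, _root_.mul_one]

/-- Morphisms of schemes over `S` are determined on a cover. -/
theorem hom_ext_cover {T Z : Over S} {R : Presieve T.left} (hR : R ∈ Scheme.fppfPrecoverage T.left) (a b : T ⟶ Z)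
    (h : ∀ ⦃U : Scheme.{u}⦄ (u : U ⟶ T.left), R u → AbDual.ovrHom T u ≫ a = AbDual.ovrHom T u ≫ b) : a = b := by
  apply Over.OverMorphism.ext
  have hsheaf := ((GrothendieckTopology.Subcanonical.isSheaf_of_isRepresentable (J := Scheme.fppfTopology)
    (yoneda.obj Z.left)).isSheafFor _ (Precoverage.generate_mem_toGrothendieck hR))
  exact hsheaf.isSeparatedFor.ext fun U u hu => congrArg Over.Hom.left (h u hu)

variable {Xt Yt : Over S} [GrpObj Xt] {φX : ∀ T : Over S, PicF.Cl (PicF.XT X.hom T) → (T ⟶ Xt)}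

/-- The point of the dual given by a class. -/
def ph (φ : ∀ T : Over S, PicF.Cl (PicF.XT X.hom T) → (T ⟶ Xt)) (T : Over S) (a : Pic (PicF.XT X.hom T)) : T ⟶ Xt :=
  φ T (toCl a)

theorem ph_natural (hX : AbDual.IsDualAV Scheme.fppfPrecoverage X Xt φX) {T T' : Over S} (g : T' ⟶ T)
    {a : Pic (PicF.XT X.hom T)} (ha : IsPZ X T a) :
    ph φX T' (pull (PicF.XTmap X.hom g) a) = g ≫ ph φX T a := by
  rw [ph, toCl_pull]
  exact hX.relPic.natural T T' g _ ha

theorem ph_mul (hX : AbDual.IsDualAV Scheme.fppfPrecoverage X Xt φX) {T : Over S} {a b : Pic (PicF.XT X.hom T)}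
    (ha : IsPZ X T a) (hb : IsPZ X T b) : ph φX T (a * b) = ph φX T a * ph φX T b := by
  obtain ⟨L, hL, rfl⟩ := exists_cls a
  obtain ⟨M, hM, rfl⟩ := exists_cls b
  exact hX.mul T L M ha hb

theorem ph_mul_base (hX : AbDual.IsDualAV Scheme.fppfPrecoverage X Xt φX) {T : Over S} {a : Pic (PicF.XT X.hom T)}
    (ha : IsPZ X T a) (N : Pic T.left) : ph φX T (a * pull (PicF.XTproj X.hom T) N) = ph φX T a := by
  obtain ⟨M, hM, rfl⟩ := exists_cls N
  choose W s hW hs using fun x : T.left => exists_gen_nhd hM x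
  let 𝒰 := T.left.openCoverOfIsOpenCover W (eq_top_iff.2 fun x _ => TopologicalSpace.Opens.mem_iSup.2 ⟨x, hW x⟩)
  refine hom_ext_cover (Scheme.zariskiPrecoverage_le_fppfPrecoverage _ 𝒰.mem₀) _ _ ?_
  rintro U u ⟨i⟩
  rw [← ph_natural hX _ (isPZ_mul_base ha _), ← ph_natural hX _ ha]
  congr 1
  rw [map_mul, ← pull_comp, (isPullback_XTmap X.hom _).w, pull_comp]
  have h1 : pull (AbDual.ovrHom T (𝒰.f i)).left (cls hM) = 1 := by
    rw [pull_cls, eq_one_iff_triv]
    exact ⟨_, CubeLib.gen_pullMap (W i).ι hM (hs i) (fun z _ => z.2)⟩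
  rw [h1, map_one, _root_.mul_one]

variable [GrpObj X] [IsProper X.hom] [Flat X.hom] [GeometricallyIntegral X.hom] [LocallyOfFinitePresentation X.hom]

/-- Morphisms are determined where a given class is primitive. -/
theorem hom_ext_of_dfc [IsLocallyNoetherian S] [LocallyOfFiniteType Xt.hom]
    (hX : AbDual.IsDualAV Scheme.fppfPrecoverage X Xt φX) {T Z : Over S} {c : Pic (PicF.XT X.hom T)}
    (hc : IsPZ X T c) (a b : T ⟶ Z)
    (h : ∀ (T' : Over S) (g : T' ⟶ T), dfc T' (pull (PicF.XTmap X.hom g) c) = 1 → g ≫ a = g ≫ b) : a = b := by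
  let u₀ := ph φX T c
  obtain ⟨R, hR, hsur⟩ := hX.relPic.locallySurjective Xt (𝟙 Xt)
  obtain ⟨R', hR', hfac⟩ : ∃ R' ∈ Scheme.fppfPrecoverage T.left, ∀ ⦃U : Scheme.{u}⦄ (v : U ⟶ T.left), R' v →
      ∃ (W : Scheme.{u}) (w : W ⟶ Xt.left) (g : U ⟶ W), R w ∧ g ≫ w = v ≫ u₀.left := by
    change R ∈ Scheme.precoverage (@Flat ⊓ @LocallyOfFinitePresentation) _ at hR
    let J := Σ' (W : Scheme.{u}) (w : W ⟶ Xt.left), R w
    let 𝒱 : ∀ i : J, pullback u₀.left i.2.1 ⟶ T.left := fun i => pullback.fst _ _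
    refine ⟨Presieve.ofArrows _ 𝒱, ?_, ?_⟩
    · refine (Scheme.ofArrows_mem_precoverage_iff _).2 ⟨fun x => ?_, fun i => ?_⟩
      · obtain ⟨W, w, hw, y, hy⟩ := Scheme.JointlySurjective.exists_eq R hR (u₀.left x)
        obtain ⟨z, hz, -⟩ := @Scheme.Pullback.exists_preimage_pullback T.left W Xt.left u₀.left w x y hy.symm
        exact ⟨⟨W, w, hw⟩, z, hz⟩
      · exact MorphismProperty.pullback_fst _ _ (hR.2 i.2.2)
    · rintro U v ⟨i⟩
      exact ⟨_, i.2.1, pullback.snd _ _, i.2.2, pullback.condition.symm⟩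
  refine hom_ext_cover hR' a b fun U v hv => ?_
  obtain ⟨W, w, g, hw, hgw⟩ := hfac v hv
  obtain ⟨ξ₀, ⟨M, hM₀, hM, hMz⟩, hξ⟩ := hsur w hw
  subst hM₀
  have hξpz : IsPZ X (AbDual.ovr Xt w) (cls hM) := (isPZ_cls_iff hM).2 hMz
  haveI : IsLocallyNoetherian W := by
    haveI : IsLocallyNoetherian Xt.left := LocallyOfFiniteType.isLocallyNoetherian Xt.hom
    haveI : LocallyOfFinitePresentation w :=
      ((show R ∈ Scheme.precoverage (@Flat ⊓ @LocallyOfFinitePresentation) _ from hR).2 hw).2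
    exact LocallyOfFiniteType.isLocallyNoetherian w
  haveI : IsLocallyNoetherian (AbDual.ovr Xt w).left := ‹IsLocallyNoetherian W›
  have hprim : dfc (AbDual.ovr Xt w) (cls hM) = 1 := dfc_eq_one _ hM hMz
  let T₁ := AbDual.ovr T v
  let gO : T₁ ⟶ AbDual.ovr Xt w := Over.homMk g (by
    show g ≫ w ≫ Xt.hom = v ≫ T.hom
    rw [← Category.assoc, hgw, Category.assoc, Over.w u₀])
  have heq : ph φX T₁ (pull (PicF.XTmap X.hom (AbDual.ovrHom T v)) c) =
      ph φX T₁ (pull (PicF.XTmap X.hom gO) (cls hM)) := by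
    rw [ph_natural hX _ hc, ph_natural hX _ hξpz]
    show _ = gO ≫ φX (AbDual.ovr Xt w) (PicF.cl M)
    rw [hξ, Category.comp_id]
    exact Over.OverMorphism.ext hgw.symm
  obtain ⟨R'', hR'', hinj⟩ := hX.relPic.locallyInjective T₁ _ _ (isPZ_pull_XTmap _ hc) (isPZ_pull_XTmap _ hξpz) heq
  refine hom_ext_cover hR'' _ _ fun U' v' hv' => ?_
  rw [← Category.assoc, ← Category.assoc]
  refine h _ _ ?_
  have h1 := hinj v' hv'
  rw [← toCl_pull, ← toCl_pull] at h1
  rw [← XTmap_comp, pull_comp, toCl_injective h1, ← pull_comp, XTmap_comp, ← pull_dfc, hprim, map_one]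

theorem bcMap_comp {A B C : Over S} (a : A ⟶ B) (b : B ⟶ C) (T : Over S) :
    AbDual.bcMap a T ≫ AbDual.bcMap b T = AbDual.bcMap (a ≫ b) T := by
  apply pullback.hom_ext <;> simp [AbDual.bcMap]

theorem bcMap_id (A T : Over S) : AbDual.bcMap (𝟙 A) T = 𝟙 _ := by
  apply pullback.hom_ext <;> simp [AbDual.bcMap]

variable {φY : ∀ T : Over S, PicF.Cl (PicF.XT Y.hom T) → (T ⟶ Yt)}

theorem ph_base (hX : AbDual.IsDualAV Scheme.fppfPrecoverage X Xt φX) {T : Over S} (N : Pic T.left)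
    (h : IsPZ X T 1) : ph φX T (pull (PicF.XTproj X.hom T) N) = 1 := by
  have h1 := ph_mul hX h h
  rw [_root_.one_mul, right_eq_mul] at h1
  rw [← _root_.one_mul (pull (PicF.XTproj X.hom T) N), ph_mul_base hX h, h1]

/-- The transpose of a product. -/
theorem isTranspose_mul [GrpObj Yt] [IsLocallyNoetherian S] [GrpObj Y] [IsProper Y.hom] [Flat Y.hom]
    [GeometricallyIntegral Y.hom] [LocallyOfFinitePresentation Y.hom] [LocallyOfFiniteType Yt.hom]
    (hX : AbDual.IsDualAV Scheme.fppfPrecoverage X Xt φX) (hY : AbDual.IsDualAV Scheme.fppfPrecoverage Y Yt φY)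
    (f g : X ⟶ Y) (ft gt : Yt ⟶ Xt) (hft : AbDual.IsTranspose f φX φY ft) (hgt : AbDual.IsTranspose g φX φY gt) :
    AbDual.IsTranspose (f * g) φX φY (ft * gt) := by
  intro T c hc
  obtain ⟨L, rfl, hL, hLz⟩ := hc
  have hpz : IsPZ Y T (cls hL) := (isPZ_cls_iff hL).2 hLz
  refine hom_ext_of_dfc hY hpz _ _ fun T' j hd => ?_
  have hpz' := isPZ_pull_XTmap (X := Y) j hpz
  rw [show φY T (PicF.cl L) = ph φY T (cls hL) from rfl,
    show φX T (PicF.pullCl (AbDual.bcMap (f * g) T) (PicF.cl L)) = ph φX T (pull (AbDual.bcMap (f * g) T) (cls hL)) from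
      congrArg (φX T) (toCl_pull _ (cls hL)).symm,
    ← Category.assoc, ← ph_natural hY j hpz, MonObj.comp_mul, ← ph_natural hX j (isPZ_pull_bcMap _ hpz), ← pull_comp,
    ← bcMap_XTmap, pull_comp]
  generalize pull (PicF.XTmap Y.hom j) (cls hL) = c at hd hpz'
  let l := AbDual.bcMap (lift f g) T'
  have hl : ∀ k : Y ⊗ Y ⟶ Y, l ≫ AbDual.bcMap k T' = AbDual.bcMap (lift f g ≫ k) T' := fun k => by
    apply pullback.hom_ext <;> simp [l, AbDual.bcMap]
  have h1 := congrArg (pull l) ((dfc_eq_one_iff T' c).1 hd)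
  simp only [map_mul, ← pull_comp, hl, lift_fst, lift_snd, ← Hom.mul_def] at h1
  rw [show l ≫ PicF.XTproj (Y ⊗ Y).hom T' ≫ eT Y T' = PicF.XTproj X.hom T' ≫ eT Y T' by
    rw [← Category.assoc, bcMap_snd], pull_comp (PicF.XTproj X.hom T')] at h1
  have hph : ∀ (k : X ⟶ Y) (kt : Yt ⟶ Xt), AbDual.IsTranspose k φX φY kt →
      ph φX T' (pull (AbDual.bcMap k T') c) = ph φY T' c ≫ kt := fun k kt hk => by
    rw [ph, toCl_pull]
    exact hk T' _ hpz'
  rw [← hph f ft hft, ← hph g gt hgt, ← ph_mul hX (isPZ_pull_bcMap _ hpz') (isPZ_pull_bcMap _ hpz'), ← h1,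
    ph_mul_base hX (isPZ_pull_bcMap _ hpz')]

omit [IsProper X.hom] [Flat X.hom] [GeometricallyIntegral X.hom] [LocallyOfFinitePresentation X.hom] [GrpObj X] [GrpObj Xt] in
theorem isTranspose_id : AbDual.IsTranspose (𝟙 X) φX φX (𝟙 Xt) := fun T c _ => by
  rw [Category.comp_id, show AbDual.bcMap (𝟙 X) T = 𝟙 _ by apply pullback.hom_ext <;> simp [AbDual.bcMap]]
  congr 1
  induction c using Quot.ind with
  | mk L => exact Quot.sound ⟨(Scheme.Modules.pullbackId _).app L⟩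

omit [IsProper X.hom] [Flat X.hom] [GeometricallyIntegral X.hom] [LocallyOfFinitePresentation X.hom] [GrpObj X] [GrpObj Xt] in
theorem isTranspose_comp {Z Zt : Over S} {φZ : ∀ T : Over S, PicF.Cl (PicF.XT Z.hom T) → (T ⟶ Zt)} (f : X ⟶ Y)
    (g : Y ⟶ Z) {ft : Yt ⟶ Xt} {gt : Zt ⟶ Yt} (hf : AbDual.IsTranspose f φX φY ft)
    (hg : AbDual.IsTranspose g φY φZ gt) : AbDual.IsTranspose (f ≫ g) φX φZ (gt ≫ ft) := by
  intro T c hc
  obtain ⟨L, rfl, hL, hLz⟩ := hc
  have hpz : IsPZ Z T (cls hL) := (isPZ_cls_iff hL).2 hLz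
  have h1 := hf T (toCl (pull (AbDual.bcMap g T) (cls hL))) (isPZ_pull_bcMap g hpz)
  rw [← Category.assoc, ← hg T (PicF.cl L) ⟨L, rfl, hL, hLz⟩]
  refine Eq.trans ?_ (h1.trans (by rw [toCl_pull]; rfl))
  congr 1
  rw [← toCl_pull, ← pull_comp, show AbDual.bcMap f T ≫ AbDual.bcMap g T = AbDual.bcMap (f ≫ g) T by
    apply pullback.hom_ext <;> simp [AbDual.bcMap], toCl_pull]
  rfl

omit [IsProper X.hom] [Flat X.hom] [GeometricallyIntegral X.hom] [LocallyOfFinitePresentation X.hom] [GrpObj X] [GrpObj Xt] in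
theorem isTranspose_unique [GrpObj Yt] (hY : AbDual.IsDualAV Scheme.fppfPrecoverage Y Yt φY) {f : X ⟶ Y}
    {ft ft' : Yt ⟶ Xt} (h : AbDual.IsTranspose f φX φY ft) (h' : AbDual.IsTranspose f φX φY ft') : ft = ft' := by
  obtain ⟨R, hR, hsur⟩ := hY.relPic.locallySurjective Yt (𝟙 Yt)
  refine hom_ext_cover hR _ _ fun U v hv => ?_
  obtain ⟨c, hc, hcv⟩ := hsur v hv
  rw [Category.comp_id] at hcv
  rw [← hcv, ← h _ c hc, ← h' _ c hc]

/-- The transpose of the trivial map is trivial. -/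
theorem isTranspose_one [GrpObj Y] [GrpObj Yt] (hX : AbDual.IsDualAV Scheme.fppfPrecoverage X Xt φX)
    (hone : ∀ T : Over S, IsPZ X T 1) : AbDual.IsTranspose (1 : X ⟶ Y) φX φY (1 : Yt ⟶ Xt) := by
  intro T c hc
  obtain ⟨L, rfl, hL, -⟩ := hc
  have h : AbDual.bcMap (1 : X ⟶ Y) T = PicF.XTproj X.hom T ≫ eT Y T := by
    apply pullback.hom_ext
    · rw [bcMap_fst, Category.assoc, eT_fst, Hom.one_def, Over.comp_left, ← Category.assoc, ← Category.assoc]
      exact congrArg (· ≫ _) pullback.condition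
    · rw [bcMap_snd, Category.assoc, eT_snd, Category.comp_id]
  rw [MonObj.comp_one, show φX T (PicF.pullCl (AbDual.bcMap (1 : X ⟶ Y) T) (PicF.cl L)) =
    ph φX T (pull (AbDual.bcMap (1 : X ⟶ Y) T) (cls hL)) from congrArg (φX T) (toCl_pull _ (cls hL)).symm, h,
    pull_comp, ph_base hX _ (hone T)]

/-- The trivial class is algebraically trivial. -/
theorem isPZ_one {T : Over S} : IsPZ X T 1 := by
  rw [← cls_structureModule, isPZ_cls_iff]
  intro t Ω _ _ σ _
  letI : (pullback (PicF.XTproj X.hom T) σ).Over (Spec (CommRingCat.of Ω)) :=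
    ⟨pullback.snd (PicF.XTproj X.hom T) σ⟩
  haveI : Subsingleton ↥(Spec (CommRingCat.of Ω)) := inferInstanceAs (Subsingleton (PrimeSpectrum Ω))
  refine algEquivZero_congr (AmpleLib.pullO _).symm ?_
  exact ⟨Spec (CommRingCat.of Ω), 𝟙 _, { toNonempty := inferInstance, toPreconnectedSpace := inferInstance },
    inferInstance, inferInstance, Coh.structureModule _, isInvertible_structureModule, 𝟙 _, 𝟙 _,
    Category.id_comp _, Category.id_comp _, ⟨AmpleLib.pullO _⟩, ⟨AmpleLib.pullO _⟩⟩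

end Groth.Agent.AbDualLib
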