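import Groth.Agent.AbDualLib.Dual
import Groth.Agent.AVLib.SeesawBase
import Groth.Agent.AVLib.Descend

/-!
# Families of classes parametrised by an abelian scheme, and classes trivial on a cover of the base
-/

set_option autoImplicit false
set_option backward.isDefEq.respectTransparency false
set_option linter.style.haveILetI false

universe u

open CategoryTheory CategoryTheory.Limits MonoidalCategory CartesianMonoidalCategory MonObj AlgebraicGeometry
open Groth.Agent.PicLib
open Groth.Agent.AmpleLib (isInvertible_pullback)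

noncomputable section

namespace Groth.Agent.AbDualLib

variable {S : Scheme.{u}} {X : Over S}

/-- A class on `X ×_S T`, `T` geometrically connected over `S`, trivial over a section of `T`, is algebraically
trivial on the geometric fibres. -/
theorem isPZ_of_family {T : Over S} [GeometricallyConnected T.hom] [LocallyOfFiniteType T.hom] [QuasiCompact T.hom]
    (e : 𝟙_ (Over S) ⟶ T) {c : Pic (PicF.XT X.hom T)} (h : pull (PicF.XTmap X.hom e) c = 1) : IsPZ X T c := by
  obtain ⟨L, hL, rfl⟩ := exists_cls c
  rw [isPZ_cls_iff]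
  intro z Ω _ _ σ _
  letI : (pullback (PicF.XTproj X.hom T) σ).Over (Spec (CommRingCat.of Ω)) :=
    ⟨pullback.snd (PicF.XTproj X.hom T) σ⟩
  let V := pullback (PicF.XTproj X.hom T) σ
  let v := pullback.snd (PicF.XTproj X.hom T) σ
  let q := pullback.snd T.hom (σ ≫ T.hom)
  haveI : ConnectedSpace ↥(pullback T.hom (σ ≫ T.hom)) :=
    GeometricallyConnected.geometrically_connectedSpace (f := T.hom) _ _ _ (.of_hasPullback _ _)
  haveI : LocallyOfFiniteType q := MorphismProperty.pullback_snd _ _ inferInstance
  haveI : QuasiCompact q := MorphismProperty.pullback_snd _ _ inferInstance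
  let t : Spec (CommRingCat.of Ω) ⟶ pullback T.hom (σ ≫ T.hom) :=
    pullback.lift σ (𝟙 _) (Category.id_comp _).symm
  have he : e.left ≫ T.hom = 𝟙 S := Over.w e
  let t₀ : Spec (CommRingCat.of Ω) ⟶ pullback T.hom (σ ≫ T.hom) :=
    pullback.lift ((σ ≫ T.hom) ≫ e.left) (𝟙 _) (by
      rw [Category.assoc, he, Category.comp_id, Category.id_comp])
  let jm : pullback v q ⟶ PicF.XT X.hom T :=
    pullback.lift (pullback.fst v q ≫ pullback.fst _ σ ≫ pullback.fst X.hom T.hom)
      (pullback.snd v q ≫ pullback.fst T.hom (σ ≫ T.hom)) (by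
        simp only [Category.assoc, pullback.condition]
        rw [← pullback.condition_assoc (f := v) (g := q), ← pullback.condition_assoc (f := PicF.XTproj X.hom T) (g := σ)])
  have hsl : ∀ (t' : Spec (CommRingCat.of Ω) ⟶ pullback T.hom (σ ≫ T.hom)) (ht' : t' ≫ q = 𝟙 _),
      Pic13.sliceAt Ω V q t' ht' ≫ jm ≫ pullback.fst X.hom T.hom = pullback.fst _ σ ≫ pullback.fst X.hom T.hom ∧
      Pic13.sliceAt Ω V q t' ht' ≫ jm ≫ PicF.XTproj X.hom T = v ≫ t' ≫ pullback.fst T.hom (σ ≫ T.hom) := by
    intro t' ht'
    have h1 : Pic13.sliceAt Ω V q t' ht' ≫ pullback.fst v q = 𝟙 V := pullback.lift_fst _ _ _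
    have h2 : Pic13.sliceAt Ω V q t' ht' ≫ pullback.snd v q = v ≫ t' := pullback.lift_snd _ _ _
    constructor
    · rw [show jm ≫ pullback.fst X.hom T.hom =
        pullback.fst v q ≫ pullback.fst _ σ ≫ pullback.fst X.hom T.hom from pullback.lift_fst _ _ _]
      exact (Category.assoc _ _ _).symm.trans ((congrArg (· ≫ _) h1).trans (Category.id_comp _))
    · rw [show jm ≫ PicF.XTproj X.hom T = pullback.snd v q ≫ pullback.fst T.hom (σ ≫ T.hom) from pullback.lift_snd _ _ _]
      exact (Category.assoc _ _ _).symm.trans ((congrArg (· ≫ _) h2).trans (Category.assoc _ _ _))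
  refine ⟨pullback T.hom (σ ≫ T.hom), q, inferInstance, inferInstance, inferInstance,
    (Scheme.Modules.pullback jm).obj L, isInvertible_pullback _ hL, t, t₀, pullback.lift_snd _ _ _,
    pullback.lift_snd _ _ _, (cls_eq_cls (isInvertible_pullback _ (isInvertible_pullback _ hL))
      (isInvertible_pullback _ hL)).1 ?_, (cls_eq_one (isInvertible_pullback _ (isInvertible_pullback _ hL))).1 ?_⟩
  · rw [← pull_cls _ (isInvertible_pullback _ hL), ← pull_cls _ hL, ← pull_comp, ← pull_cls _ hL]
    congr 2
    apply pullback.hom_ext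
    · exact (Category.assoc _ _ _).trans (hsl t _).1
    · refine ((Category.assoc _ _ _).trans (hsl t _).2).trans ?_
      rw [pullback.lift_fst]
      exact pullback.condition.symm
  · rw [← pull_cls _ (isInvertible_pullback _ hL), ← pull_cls _ hL, ← pull_comp]
    let a : V ⟶ PicF.XT X.hom (𝟙_ (Over S)) :=
      pullback.lift (pullback.fst _ σ ≫ pullback.fst X.hom T.hom) (v ≫ σ ≫ T.hom) (by
        rw [Category.assoc, pullback.condition, pullback.condition_assoc]
        exact (Category.comp_id _).symm)
    rw [show Pic13.sliceAt Ω V q t₀ (pullback.lift_snd _ _ _) ≫ jm = a ≫ PicF.XTmap X.hom e from ?_, pull_comp, h, map_one]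
    apply pullback.hom_ext
    · refine ((Category.assoc _ _ _).trans (hsl t₀ _).1).trans ?_
      simp [a, PicF.XTmap]
    · refine ((Category.assoc _ _ _).trans (hsl t₀ _).2).trans ?_
      simp [t₀, a, v, PicF.XTmap]

/-- A class trivial after a base change through a point is trivial on the fibre at that point. -/
theorem pull_fiberι_eq_one_of_pull [IsProper X.hom] [GeometricallyIntegral X.hom] {T U : Over S} (g : U ⟶ T)
    {c : Pic (PicF.XT X.hom T)} (h : pull (PicF.XTmap X.hom g) c = 1) (w : U.left) :
    pull ((PicF.XTproj X.hom T).fiberι (g.left w)) c = 1 := by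
  let π := PicF.XTproj X.hom T
  let π' := PicF.XTproj X.hom U
  haveI : IsProper π := MorphismProperty.pullback_snd _ _ inferInstance
  haveI : GeometricallyIntegral π := MorphismProperty.pullback_snd _ _ inferInstance
  let z := g.left w
  let K := T.left.residueField z
  let K' := U.left.residueField w
  letI : Algebra K K' := (g.left.residueFieldMap w).hom.toAlgebra
  haveI : IsProper (π.fiberToSpecResidueField z) := MorphismProperty.pullback_snd _ _ inferInstance
  haveI : GeometricallyIntegral (π.fiberToSpecResidueField z) := MorphismProperty.pullback_snd _ _ inferInstance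
  haveI : IsIntegral (π.fiber z) := by
    haveI : Subsingleton ↥(Spec (T.left.residueField z)) := inferInstanceAs (Subsingleton (PrimeSpectrum (T.left.residueField z)))
    exact GeometricallyIntegral.isIntegral_of_subsingleton (π.fiberToSpecResidueField z)
  let alg := Spec.map (g.left.residueFieldMap w)
  let l : π'.fiber w ⟶ π.fiber z :=
    pullback.lift (π'.fiberι w ≫ PicF.XTmap X.hom g) (π'.fiberToSpecResidueField w ≫ alg) (by
      rw [Category.assoc, (isPullback_XTmap X.hom g).w, Category.assoc,
        Scheme.Hom.SpecMap_residueFieldMap_fromSpecResidueField, ← Category.assoc, ← Category.assoc]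
      exact congrArg (· ≫ g.left) pullback.condition)
  have hc : IsPullback l (π'.fiberToSpecResidueField w) (π.fiberToSpecResidueField z) alg := by
    refine IsPullback.of_right ?_ (pullback.lift_snd _ _ _) (IsPullback.of_hasPullback π (T.left.fromSpecResidueField z))
    rw [pullback.lift_fst, Scheme.Hom.SpecMap_residueFieldMap_fromSpecResidueField]
    exact (IsPullback.of_hasPullback π' (U.left.fromSpecResidueField w)).paste_horiz (isPullback_XTmap X.hom g)
  obtain ⟨M, hM, hMc⟩ := exists_cls (pull (π.fiberι z) c)
  rw [← hMc, eq_one_iff_triv]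
  refine AVLib.triv_of_bc (K := K) (K' := K') hc hM ?_
  rw [← eq_one_iff_triv (isInvertible_pullback _ hM), ← pull_cls _ hM, hMc, ← pull_comp,
    show l ≫ π.fiberι z = π'.fiberι w ≫ PicF.XTmap X.hom g from pullback.lift_fst _ _ _, pull_comp, h, map_one]

/-- Over a reduced base a normalised class trivial on all fibres is trivial. -/
theorem eq_one_of_forall_fibre [IsProper X.hom] [Flat X.hom] [GeometricallyIntegral X.hom] {T : Over S}
    [IsLocallyNoetherian T.left] [IsReduced T.left] (e : T.left ⟶ PicF.XT X.hom T) (he : e ≫ PicF.XTproj X.hom T = 𝟙 _)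
    {c : Pic (PicF.XT X.hom T)} (h0 : pull e c = 1)
    (h : ∀ z : T.left, pull ((PicF.XTproj X.hom T).fiberι z) c = 1) : c = 1 := by
  let π := PicF.XTproj X.hom T
  haveI : IsProper π := MorphismProperty.pullback_snd _ _ inferInstance
  haveI : Flat π := MorphismProperty.pullback_snd _ _ inferInstance
  haveI : GeometricallyIntegral π := MorphismProperty.pullback_snd _ _ inferInstance
  obtain ⟨M, hM, rfl⟩ := exists_cls c
  obtain ⟨N, hN, ⟨i⟩⟩ := AVLib.exists_iso_pullback π hM (S := Set.univ) dense_univ fun z _ => by
    rw [← eq_one_iff_triv (isInvertible_pullback _ hM), ← pull_cls _ hM]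
    exact h z
  have hc : cls hM = pull π (cls hN) := by
    rw [pull_cls]
    exact (cls_eq_cls _ _).2 ⟨i.symm⟩
  rw [hc, ← pull_comp, he, pull_id] at h0
  rw [hc, h0, map_one]

end Groth.Agent.AbDualLib
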