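import Groth.Agent.AbSchLib.Dual
import Groth.Agent.GrpQuotLib.FieldQuot
import Groth.Agent.GrpQuotLib.KerGrp
import Groth.Agent.AVLib.IdSub
import Groth.Agent.AVLib.Isog
import Groth.Agent.AVLib.MaxAbel
import Groth.Agent.FpqcDesc.Stalk
import Groth.Agent.GeomIrred.Scheme
import Groth.Agent.RigidLib.Proper

/-!
# Images, quotients and kernels of homomorphisms of abelian varieties
-/

set_option autoImplicit false
set_option backward.isDefEq.respectTransparency false
set_option linter.style.haveILetI false
set_option linter.unusedSectionVars false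

universe u

open CategoryTheory CategoryTheory.Limits MonoidalCategory CartesianMonoidalCategory MonObj AlgebraicGeometry

noncomputable section

namespace Groth.Agent.AbDualLib

variable {K : Type u} [Field K]

theorem flat_hom (A : Over (Spec (CommRingCat.of K))) : Flat A.hom :=
  inferInstance

/-- A surjective homomorphism of abelian varieties of equal dimension has a dual. -/
theorem exists_dual (A B : Over (Spec (CommRingCat.of K))) [GrpObj A] [GrpObj B] [IsProper A.hom]
    [GeometricallyIntegral A.hom] [IsProper B.hom] [GeometricallyIntegral B.hom] (f : A ⟶ B) [IsMonHom f]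
    [Surjective f.left] (hdim : topologicalKrullDim A.left = topologicalKrullDim B.left) :
    ∃ (n : ℕ) (g : B ⟶ A), 1 ≤ n ∧ IsMonHom g ∧ f ≫ g = 𝟙 A ^ n ∧ g ≫ f = 𝟙 B ^ n := by
  haveI : Subsingleton ↥(Spec (CommRingCat.of K)) := inferInstanceAs (Subsingleton (PrimeSpectrum K))
  obtain ⟨hfin, hflat⟩ := AVLib.isFinite_flat_of_surjective f hdim
  haveI := flat_hom A
  haveI := flat_hom B
  haveI : LocallyOfFinitePresentation A.hom := inferInstance
  haveI : LocallyOfFinitePresentation B.hom := inferInstance
  haveI := GeomIrred.geometricallyConnected_of_geometricallyIrreducible A.hom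
  haveI := GeomIrred.geometricallyConnected_of_geometricallyIrreducible B.hom
  let pt : Spec (CommRingCat.of K) := IsLocalRing.closedPoint K
  let n := Scheme.Hom.finrank f.left (η[B].left pt)
  have hn : 1 ≤ n := by
    obtain ⟨x, hx⟩ := f.left.surjective (η[B].left pt)
    show 1 ≤ Scheme.Hom.finrank f.left (η[B].left pt)
    rw [← hx]
    exact Scheme.Hom.one_le_finrank_map f.left x
  obtain ⟨⟨g, ⟨hg, hfg⟩, -⟩, h⟩ := AbSchLib.existsUnique_dual A B f n hn fun z => by rw [Subsingleton.elim z pt]
  exact ⟨n, g, hn, hg, hfg, (h g hg hfg).1⟩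

variable [IsAlgClosed K] {A B : Over (Spec (CommRingCat.of K))} [GrpObj A] [GrpObj B] [IsProper A.hom]
  [GeometricallyIntegral A.hom] [IsProper B.hom] [GeometricallyIntegral B.hom]

/-- A scheme of finite type over an algebraically closed field with finitely many points is of dimension zero. -/
theorem dim_kernel_le_zero (α : A ⟶ B) [IsMonHom α]
    (hα : Set.Finite {a : (𝟙_ (Over (Spec (CommRingCat.of K))) ⟶ A) | a ≫ α = 1}) :
    topologicalKrullDim ↥(pullback α.left η[B].left) = 0 := by
  let N := pullback α.left η[B].left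
  let g : N ⟶ Spec (CommRingCat.of K) := pullback.snd α.left η[B].left
  haveI : IsProper α.left := AVLib.isProper_hom α
  haveI : LocallyOfFiniteType g := MorphismProperty.pullback_snd _ _ inferInstance
  haveI : JacobsonSpace ↥N := LocallyOfFiniteType.jacobsonSpace g
  haveI : Nonempty ↥N :=
    ⟨(pullback.lift η[A].left (𝟙 _) (by
      rw [← Over.comp_left, IsMonHom.one_hom, Category.id_comp]) : _ ⟶ N) (IsLocalRing.closedPoint K)⟩
  have hη : η[B].left ≫ B.hom = 𝟙 _ := Over.w η[B]
  let e : {p : Spec (CommRingCat.of K) ⟶ N // p ≫ g = 𝟙 _} → (𝟙_ (Over (Spec (CommRingCat.of K))) ⟶ A) :=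
    fun p => Over.homMk (p.1 ≫ pullback.fst _ _) (by
      show (p.1 ≫ pullback.fst _ _) ≫ A.hom = 𝟙 _
      rw [← Over.w α, Category.assoc, pullback.condition_assoc, ← Category.assoc, ← Category.assoc]
      rw [show p.1 ≫ pullback.snd α.left η[B].left = 𝟙 _ from p.2, Category.id_comp, hη]
      rfl)
  have he : ∀ p, e p ∈ {a : (𝟙_ (Over (Spec (CommRingCat.of K))) ⟶ A) | a ≫ α = 1} := fun p => by
    apply Over.OverMorphism.ext
    show (p.1 ≫ pullback.fst _ _) ≫ α.left = _
    rw [Hom.one_def, toUnit_unique (toUnit _) (𝟙 _), Category.id_comp, Category.assoc, pullback.condition,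
      ← Category.assoc, show p.1 ≫ pullback.snd α.left η[B].left = 𝟙 _ from p.2, Category.id_comp]
  haveI : Finite {p : Spec (CommRingCat.of K) ⟶ N // p ≫ g = 𝟙 _} := by
    haveI := hα.to_subtype
    refine Finite.of_injective (fun p => (⟨e p, he p⟩ : {a : (𝟙_ _ ⟶ A) | a ≫ α = 1})) fun p q h => ?_
    apply Subtype.ext
    apply pullback.hom_ext
    · exact congrArg (fun a => Over.Hom.left a.1) h
    · exact p.2.trans q.2.symm
  haveI : Finite (closedPoints ↥N) := Finite.of_equiv _ (pointEquivClosedPoint g)
  have hclosed : IsClosed (closedPoints ↥N) := by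
    have h : (closedPoints ↥N) = ⋃ x ∈ closedPoints ↥N, ({x} : Set ↥N) := (Set.biUnion_of_singleton _).symm
    rw [h]
    exact (Set.toFinite _).isClosed_biUnion fun x hx => hx
  have huniv : closedPoints ↥N = Set.univ := by
    rw [← closure_closedPoints, hclosed.closure_eq]
  haveI : Finite ↥N := Set.finite_univ_iff.1 (huniv ▸ Set.toFinite _)
  haveI : T1Space ↥N := ⟨fun x => (Set.eq_univ_iff_forall.1 huniv x :)⟩
  exact ASp.topologicalKrullDim_eq_zero_of_discrete ↥N

/-- The image of a homomorphism with finitely many points in the kernel, with a dual of the isogeny onto it. -/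
theorem exists_image (α : A ⟶ B) [IsMonHom α]
    (hα : Set.Finite {a : (𝟙_ (Over (Spec (CommRingCat.of K))) ⟶ A) | a ≫ α = 1}) :
    ∃ (C : Over (Spec (CommRingCat.of K))) (_ : GrpObj C) (p : A ⟶ C) (i : C ⟶ B) (q : C ⟶ A) (n : ℕ),
      IsMonHom p ∧ IsMonHom i ∧ p ≫ i = α ∧ IsClosedImmersion i.left ∧ Epi p ∧ IsProper C.hom ∧
      GeometricallyIntegral C.hom ∧ 1 ≤ n ∧ q ≫ p = 𝟙 C ^ n ∧ topologicalKrullDim C.left = topologicalKrullDim A.left := by
  haveI : IsProper α.left := AVLib.isProper_hom α
  obtain ⟨C, hC, p, i, hp, hi, hpi, hf, hs, hqc, hlft, hci, hker⟩ := GrpHomLib.exists_factor α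
  letI := hC
  haveI := hp; haveI := hi; haveI := hf; haveI := hs; haveI := hci; haveI := hqc
  haveI : IsProper C.hom := by rw [← Over.w i]; infer_instance
  haveI : IsIntegral A.left := by
    haveI : Subsingleton ↥(Spec (CommRingCat.of K)) := inferInstanceAs (Subsingleton (PrimeSpectrum K))
    exact GeometricallyIntegral.isIntegral_of_subsingleton A.hom
  haveI : IsReduced C.left := FlatDescStalk.isReduced_of_flat_surjective p.left
  haveI : IsSchemeTheoreticallyDominant p.left := IsSchemeTheoreticallyDominant.of_isDominant p.left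
  haveI : GeometricallyIntegral C.hom := AVLib.geometricallyIntegral_of_dominant C.hom p.left (Over.w p)
  have hdim : topologicalKrullDim C.left = topologicalKrullDim A.left := by
    have h := GrpHomLib.dim_eq α
    rw [dim_kernel_le_zero α hα, add_zero] at h
    rw [h]
    have hr : Set.range α.left = Set.range i.left := by
      rw [← hpi, Over.comp_left, Scheme.Hom.comp_base, TopCat.coe_comp, Set.range_comp, p.left.surjective.range_eq,
        Set.image_univ]
    rw [hr]
    exact i.left.isEmbedding.toHomeomorph.isHomeomorph.topologicalKrullDim_eq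
  obtain ⟨n, q, hn, -, -, hqp⟩ := exists_dual A C p hdim.symm
  haveI : SchDesc.IsFpqc p.left := SchDesc.IsFpqc.of_quasiCompact p.left
  exact ⟨C, hC, p, i, q, n, hp, hi, hpi, hci, GrpQuotLib.epi_of_isFpqc p, inferInstance, inferInstance, hn, hqp, hdim⟩

/-- A translate of a geometrically integral kernel: the quotient map has geometrically integral fibres. -/
theorem geometricallyIntegral_quot {C Q : Over (Spec (CommRingCat.of K))} [GrpObj C] [GrpObj Q]
    [GeometricallyIntegral C.hom] (i : C ⟶ B) (π : B ⟶ Q) [IsMonHom π] [Surjective π.left]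
    (hker : AlgGrp.IsKernel i π) : GeometricallyIntegral π.left := by
  have h := MonoFibre.KernelFibre.isPullback_torsor π i hker
  have h1 : GeometricallyIntegral (fst B C).left := MorphismProperty.of_isPullback
    (IsPullback.of_hasPullback B.hom C.hom).flip ‹GeometricallyIntegral C.hom›
  haveI : GeometricallyIntegral (pullback.snd π.left π.left) := by
    rw [← MorphismProperty.cancel_left_of_respectsIso @GeometricallyIntegral h.isoPullback.hom, h.isoPullback_hom_snd]
    exact h1
  exact GeomRedDesc.geometricallyIntegral_of_surjective π.left π.left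

/-- A sub-abelian variety killed by a surjection gives an isogeny factorisation with a dual. -/
theorem exists_quotient [IsCommMonObj B] {C D : Over (Spec (CommRingCat.of K))} [GrpObj C] [GrpObj D]
    [IsProper C.hom] [GeometricallyIntegral C.hom] [IsProper D.hom] [GeometricallyIntegral D.hom]
    (i : C ⟶ B) [IsMonHom i] [IsClosedImmersion i.left] (β : B ⟶ D) [IsMonHom β] [Surjective β.left]
    (hiβ : i ≫ β = 1) (a b d : ℕ) (hC : topologicalKrullDim C.left = a) (hB : topologicalKrullDim B.left = b)
    (hD : topologicalKrullDim D.left = d) (hdim : b = a + d) :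
    ∃ (Q : Over (Spec (CommRingCat.of K))) (_ : GrpObj Q) (π : B ⟶ Q) (h' : D ⟶ Q) (m : ℕ),
      IsMonHom π ∧ IsMonHom h' ∧ IsProper Q.hom ∧ GeometricallyIntegral Q.hom ∧ Surjective π.left ∧ Flat π.left ∧
      AlgGrp.IsKernel i π ∧ 1 ≤ m ∧ β ≫ h' = π ^ m := by
  haveI : IsIntegral B.left := by
    haveI : Subsingleton ↥(Spec (CommRingCat.of K)) := inferInstanceAs (Subsingleton (PrimeSpectrum K))
    exact GeometricallyIntegral.isIntegral_of_subsingleton B.hom
  haveI : LocallyOfFiniteType B.hom := inferInstance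
  have hN : AlgGrp.IsNormalHom i := fun T g n => ⟨n, by rw [mul_comm g, _root_.mul_assoc, mul_inv_cancel, _root_.mul_one]⟩
  obtain ⟨Q, hQ, π, hπm, hQs, hQl, hQq, hπs, hπf, hπp, hker⟩ := GrpQuotLib.exists_quotientGrp_field C B i hN
  letI := hQ
  haveI := hπm; haveI := hQs; haveI := hQl; haveI := hQq; haveI := hπs; haveI := hπf; haveI := hπp
  haveI : UniversallyClosed Q.hom := by
    haveI : UniversallyClosed (π.left ≫ Q.hom) := by rw [Over.w π]; infer_instance
    exact UniversallyClosed.of_comp_surjective π.left Q.hom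
  haveI : IsProper Q.hom := {}
  haveI : QuasiCompact π.left := by
    haveI : QuasiCompact (π.left ≫ Q.hom) := by rw [Over.w π]; infer_instance
    exact QuasiCompact.of_comp π.left Q.hom
  haveI : IsReduced Q.left := FlatDescStalk.isReduced_of_flat_surjective π.left
  haveI : IsSchemeTheoreticallyDominant π.left := IsSchemeTheoreticallyDominant.of_isDominant π.left
  haveI : GeometricallyIntegral Q.hom := AVLib.geometricallyIntegral_of_dominant Q.hom π.left (Over.w π)
  haveI : IsProper π.left := AVLib.isProper_hom π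
  haveI : SchDesc.IsFpqc π.left := SchDesc.IsFpqc.of_quasiCompact π.left
  haveI : Epi π := GrpQuotLib.epi_of_isFpqc π
  obtain ⟨h, hh⟩ := GrpQuotLib.exists_desc π β fun T u v huv => by
    have h1 : (u / v) ≫ π = 1 := by rw [GrpObj.div_comp, huv, div_self']
    obtain ⟨r, hr⟩ : ∃ r : T ⟶ C, r ≫ i = u / v :=
      ⟨hker.lift (u / v) (toUnit T) (by rw [h1, Hom.one_def]), hker.lift_fst _ _ _⟩
    have h2 : (u / v) ≫ β = 1 := by rw [← hr, Category.assoc, hiβ, MonObj.comp_one]
    rwa [GrpObj.div_comp, div_eq_one] at h2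
  haveI : IsMonHom h := by
    haveI := flat_hom Q
    haveI : LocallyOfFinitePresentation Q.hom := inferInstance
    haveI := GeomIrred.geometricallyConnected_of_geometricallyIrreducible Q.hom
    refine RigidLib.isMonHom_of_one h ?_
    rw [← IsMonHom.one_hom π, Category.assoc, hh, IsMonHom.one_hom β]
  haveI : Surjective h.left := by
    haveI : Surjective (π.left ≫ h.left) := by rw [← Over.comp_left, hh]; infer_instance
    exact Surjective.of_comp π.left h.left
  have hQd : topologicalKrullDim Q.left = topologicalKrullDim D.left := by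
    have h1 := GrpHomLib.dim_eq π
    rw [Set.range_eq_univ.mpr π.left.surjective, (Homeomorph.Set.univ ↥Q.left).isHomeomorph.topologicalKrullDim_eq,
      hB] at h1
    have hk : topologicalKrullDim ↥(pullback π.left η[Q].left) = a := by
      rw [← hC]
      exact (GrpQuotLib.isPullback_left hker).isoPullback.symm.schemeIsoToHomeo.isHomeomorph.topologicalKrullDim_eq
    rw [hk] at h1
    obtain ⟨e, he⟩ := AVLib.exists_dim (A := Q)
    rw [he, hdim] at h1
    rw [he, hD]
    have h2 : ((a + d : ℕ) : WithBot ℕ∞) = ((e + a : ℕ) : WithBot ℕ∞) := by rw [h1]; push_cast; rfl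
    have h3 : a + d = e + a := by exact_mod_cast h2
    rw [show e = d by omega]
  obtain ⟨m, h', hm, hh'm, hhh, -⟩ := exists_dual Q D h hQd
  refine ⟨Q, hQ, π, h', m, hπm, hh'm, inferInstance, inferInstance, hπs, hπf, hker, hm, ?_⟩
  rw [← hh, Category.assoc, hhh, MonObj.comp_pow, Category.comp_id]

/-- A power of every rational point of the kernel lies on an abelian subvariety of the kernel. -/
theorem exists_kernel_component [IsCommMonObj A] (f : A ⟶ B) [IsMonHom f] :
    ∃ (Y : Over (Spec (CommRingCat.of K))) (_ : GrpObj Y) (j : Y ⟶ A) (c : ℕ), IsMonHom j ∧ IsProper Y.hom ∧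
      GeometricallyIntegral Y.hom ∧ j ≫ f = 1 ∧ 1 ≤ c ∧
      ∀ y : 𝟙_ (Over (Spec (CommRingCat.of K))) ⟶ A, y ≫ f = 1 → ∃ z, z ≫ j = y ^ c := by
  obtain ⟨hG, hGhom⟩ := GrpQuotLib.exists_grpObj_kernel f
  letI := hG
  haveI := hGhom
  let G := pullback f η[B]
  let k : G ⟶ A := pullback.fst f η[B]
  haveI : IsClosedImmersion η[B].left := GrpSchLib.isClosedImmersion_unit
  have hsq := GrpQuotLib.isPullback_left (IsPullback.of_hasPullback f η[B])
  haveI : IsClosedImmersion k.left := MorphismProperty.of_isPullback hsq.flip ‹IsClosedImmersion η[B].left›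
  haveI : IsProper G.hom := by rw [← Over.w k]; infer_instance
  haveI : LocallyOfFiniteType G.hom := inferInstance
  obtain ⟨Y, hY, i, hi, hci, hYp, hYg, hr⟩ := AVLib.exists_idSubgroup (G := G)
  letI := hY
  haveI := hi; haveI := hci
  obtain ⟨c, hc, hpow⟩ := AVLib.exists_pow_mem_idComp (G := G)
  refine ⟨Y, hY, i ≫ k, c.factorial, inferInstance, hYp, hYg, ?_, Nat.factorial_pos c, fun y hy => ?_⟩
  · rw [Category.assoc, pullback.condition, ← Category.assoc, toUnit_unique (i ≫ _) (toUnit Y), Hom.one_def]
  · let x : 𝟙_ _ ⟶ G := pullback.lift y (toUnit _) (by rw [hy, Hom.one_def])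
    obtain ⟨m, hm1, hmc, hmem⟩ := hpow x
    haveI : Subsingleton ↥(Spec (CommRingCat.of K)) := inferInstanceAs (Subsingleton (PrimeSpectrum K))
    haveI : IsReduced (𝟙_ (Over (Spec (CommRingCat.of K)))).left := inferInstanceAs (IsReduced (Spec (CommRingCat.of K)))
    obtain ⟨l, hl⟩ := GrpHomLib.exists_lift_of_range i.left (x ^ m).left (by
      rintro _ ⟨t, rfl⟩
      rw [hr, show t = IsLocalRing.closedPoint K from Subsingleton.elim (α := PrimeSpectrum K) _ _]
      exact hmem)
    let z : 𝟙_ _ ⟶ Y := Over.homMk l (by rw [← Over.w i, reassoc_of% hl]; exact Over.w (x ^ m))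
    have hz : z ≫ i = x ^ m := Over.OverMorphism.ext hl
    obtain ⟨r, hr'⟩ := Nat.dvd_factorial hm1 hmc
    refine ⟨z ^ r, ?_⟩
    rw [MonObj.pow_comp, ← Category.assoc z, hz, MonObj.pow_comp, show x ≫ k = y from pullback.lift_fst _ _ _,
      ← pow_mul, ← hr']

end Groth.Agent.AbDualLib
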