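import Groth.Agent.AbDualLib.Rigid

/-!
# Biadditivity of the Poincaré class and biduality
-/

set_option autoImplicit false
set_option backward.isDefEq.respectTransparency false
set_option linter.style.haveILetI false
set_option linter.unusedSectionVars false

universe u

open CategoryTheory CategoryTheory.Limits MonoidalCategory CartesianMonoidalCategory MonObj AlgebraicGeometry
open Groth.Agent.PicLib
open Groth.Agent.AmpleLib (isInvertible_pullback isInvertible_tensor)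

noncomputable section

namespace Groth.Agent.AbDualLib

variable {S : Scheme.{u}} {X Xt : Over S} {φX : ∀ T : Over S, PicF.Cl (PicF.XT X.hom T) → (T ⟶ Xt)}

theorem eT_bcMap [GrpObj X] {Y : Over S} [GrpObj Y] (f : Y ⟶ X) [IsMonHom f] (T : Over S) :
    eT Y T ≫ AbDual.bcMap f T = eT X T := by
  apply pullback.hom_ext
  · rw [Category.assoc, bcMap_fst, ← Category.assoc, eT_fst, eT_fst, Category.assoc, ← Over.comp_left,
      IsMonHom.one_hom f]
  · rw [Category.assoc, bcMap_snd, eT_snd, eT_snd]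

theorem pull_eT_XTmap [GrpObj X] {T T' : Over S} (g : T' ⟶ T) {a : Pic (PicF.XT X.hom T)}
    (h : pull (eT X T) a = 1) : pull (eT X T') (pull (PicF.XTmap X.hom g) a) = 1 :=
  InvDescLib.rigid_XTmap g h

variable [GrpObj X] [GrpObj Xt] [IsLocallyNoetherian S] [IsProper X.hom] [Flat X.hom] [GeometricallyIntegral X.hom]
  [LocallyOfFinitePresentation X.hom] [LocallyOfFiniteType Xt.hom]

/-- A rigidified class in `Pic⁰` is additive in maps to `X`. -/
theorem pull_bcMap_mul (hX : AbDual.IsDualAV Scheme.fppfPrecoverage X Xt φX) {T Y : Over S}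
    {c : Pic (PicF.XT X.hom T)} (hc : IsPZ X T c) (hr : pull (eT X T) c = 1) (a b : Y ⟶ X) :
    pull (AbDual.bcMap (a * b) T) c = pull (AbDual.bcMap a T) c * pull (AbDual.bcMap b T) c := by
  have h1 := congrArg (pull (AbDual.bcMap (lift a b) T)) ((dfc_eq_one_iff T c).1 (dfc_eq_one_of_rigid hX hc hr))
  rw [pull_comp (PicF.XTproj (X ⊗ X).hom T), hr, map_one, _root_.mul_one, map_mul, ← pull_comp, ← pull_comp,
    ← pull_comp, bcMap_comp, bcMap_comp, bcMap_comp, lift_fst, lift_snd, ← Hom.mul_def] at h1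
  exact h1

theorem pull_bcMap_one (hX : AbDual.IsDualAV Scheme.fppfPrecoverage X Xt φX) {T Y : Over S}
    {c : Pic (PicF.XT X.hom T)} (hc : IsPZ X T c) (hr : pull (eT X T) c = 1) :
    pull (AbDual.bcMap (1 : Y ⟶ X) T) c = 1 := by
  have h := pull_bcMap_mul hX hc hr (1 : Y ⟶ X) 1
  rw [_root_.mul_one] at h
  exact right_eq_mul.1 h

theorem pull_bcMap_pow (hX : AbDual.IsDualAV Scheme.fppfPrecoverage X Xt φX) {T : Over S}
    {c : Pic (PicF.XT X.hom T)} (hc : IsPZ X T c) (hr : pull (eT X T) c = 1) (n : ℕ) :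
    pull (AbDual.bcMap (𝟙 X ^ n) T) c = c ^ n := by
  induction n with
  | zero => rw [pow_zero, pow_zero, pull_bcMap_one hX hc hr]
  | succ n ih => rw [pow_succ, pow_succ, pull_bcMap_mul hX hc hr, ih, bcMap_id, pull_id]

theorem pull_bcMap_inv_mul (hX : AbDual.IsDualAV Scheme.fppfPrecoverage X Xt φX) {T : Over S}
    {c : Pic (PicF.XT X.hom T)} (hc : IsPZ X T c) (hr : pull (eT X T) c = 1) :
    pull (AbDual.bcMap (𝟙 X)⁻¹ T) c * c = 1 := by
  have h := pull_bcMap_mul hX hc hr (𝟙 X)⁻¹ (𝟙 X)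
  rw [inv_mul_cancel, pull_bcMap_one hX hc hr, bcMap_id, pull_id] at h
  exact h.symm

/-- A Poincaré class as an element of the Picard group. -/
theorem exists_poincare {ξ : PicF.Cl (PicF.XT X.hom Xt)} (hξ : AbDual.IsPoincareCl X Xt φX ξ) :
    ∃ P : Pic (PicF.XT X.hom Xt), toCl P = ξ ∧ IsPZ X Xt P ∧ pull (eT X Xt) P = 1 ∧ ph φX Xt P = 𝟙 Xt := by
  obtain ⟨⟨L, rfl, hL, hz⟩, hid, ht⟩ := hξ
  exact ⟨cls hL, rfl, (isPZ_cls_iff hL).2 hz, toCl_injective ((toCl_pull _ _).trans ht), hid⟩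

theorem ph_one (hX : AbDual.IsDualAV Scheme.fppfPrecoverage X Xt φX) {T : Over S} : ph φX T 1 = 1 := by
  have h := ph_mul hX (isPZ_one (X := X) (T := T)) isPZ_one
  rw [_root_.one_mul] at h
  exact right_eq_mul.1 h

/-- Multiplication by `n` on the dual gives the power of the Poincaré class. -/
theorem pull_XTmap_pow (hX : AbDual.IsDualAV Scheme.fppfPrecoverage X Xt φX) {P : Pic (PicF.XT X.hom Xt)}
    (hP : IsPZ X Xt P) (hr : pull (eT X Xt) P = 1) (hid : ph φX Xt P = 𝟙 Xt) (n : ℕ) :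
    pull (PicF.XTmap X.hom (𝟙 Xt ^ n)) P = P ^ n := by
  have hpz : ∀ m : ℕ, IsPZ X Xt (P ^ m) := fun m => by
    rw [← pull_bcMap_pow hX hP hr m]
    exact isPZ_pull_bcMap _ hP
  refine eq_of_ph_eq hX (isPZ_pull_XTmap _ hP) (hpz n) (pull_eT_XTmap _ hr) (by rw [map_pow, hr, one_pow]) ?_
  rw [ph_natural hX _ hP, hid, Category.comp_id]
  induction n with
  | zero => rw [pow_zero, pow_zero, ph_one hX]
  | succ n ih => rw [pow_succ, pow_succ, ph_mul hX (hpz n) hP, hid, ih]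

/-- Inversion on the dual gives the inverse of the Poincaré class. -/
theorem pull_XTmap_inv_mul (hX : AbDual.IsDualAV Scheme.fppfPrecoverage X Xt φX) {P : Pic (PicF.XT X.hom Xt)}
    (hP : IsPZ X Xt P) (hr : pull (eT X Xt) P = 1) (hid : ph φX Xt P = 𝟙 Xt) :
    pull (PicF.XTmap X.hom (𝟙 Xt)⁻¹) P * P = 1 := by
  have h := pull_bcMap_inv_mul hX hP hr
  suffices e : pull (PicF.XTmap X.hom (𝟙 Xt)⁻¹) P = pull (AbDual.bcMap (𝟙 X)⁻¹ Xt) P by rw [e, h]
  have hpz := isPZ_pull_bcMap (X := X) (𝟙 X)⁻¹ hP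
  refine eq_of_ph_eq hX (isPZ_pull_XTmap _ hP) hpz (pull_eT_XTmap _ hr) ?_ ?_
  · have h2 := congrArg (pull (eT X Xt)) h
    rw [map_mul, hr, map_one, _root_.mul_one] at h2
    exact h2
  · rw [ph_natural hX _ hP, hid, Category.comp_id]
    have h2 := ph_mul hX hpz hP
    rw [h, ph_one hX, hid] at h2
    exact (eq_inv_of_mul_eq_one_left h2.symm).symm

/-- Pulling back the Poincaré classes along a homomorphism and along its transpose agree. -/
theorem pull_bcMap_eq_pull_transpose {Y Yt : Over S} [GrpObj Y] [GrpObj Yt] {φY : ∀ T : Over S, PicF.Cl (PicF.XT Y.hom T) → (T ⟶ Yt)}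
    (hX : AbDual.IsDualAV Scheme.fppfPrecoverage X Xt φX) {f : X ⟶ Y} [IsMonHom f] {ft : Yt ⟶ Xt}
    (hft : AbDual.IsTranspose f φX φY ft) {T : Over S} {c : Pic (PicF.XT Y.hom T)} (hc : IsPZ Y T c)
    (hr : pull (eT Y T) c = 1) {P : Pic (PicF.XT X.hom Xt)} (hP : IsPZ X Xt P) (hPr : pull (eT X Xt) P = 1)
    (hid : ph φX Xt P = 𝟙 Xt) :
    pull (AbDual.bcMap f T) c = pull (PicF.XTmap X.hom (ph φY T c ≫ ft)) P := by
  refine eq_of_ph_eq hX (isPZ_pull_bcMap f hc) (isPZ_pull_XTmap _ hP) ?_ (pull_eT_XTmap _ hPr) ?_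
  · rw [← pull_comp, eT_bcMap, hr]
  · rw [ph_natural hX _ hP, hid, Category.comp_id, ph, toCl_pull]
    exact hft T _ hc

end Groth.Agent.AbDualLib
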