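import Groth.Prelude.Def_AbDual
import Groth.Agent.CubeBaseLib.Base
import Groth.Agent.AVLib.Descend
import Groth.Agent.PicLib.Group

/-!
# Classes algebraically trivial on the geometric fibres of a group scheme are primitive
-/

set_option autoImplicit false
set_option backward.isDefEq.respectTransparency false
set_option linter.style.haveILetI false

universe u

open CategoryTheory CategoryTheory.Limits MonoidalCategory CartesianMonoidalCategory MonObj AlgebraicGeometry
open Groth.Agent.PicLib
open Groth.Agent.AmpleLib (isInvertible_pullback)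

noncomputable section

namespace Groth.Agent.AbDualLib

/-- A point in the image of a section has the residue field of the base. -/
theorem fromSpecResidueField_section {A B : Scheme.{u}} (e : A ⟶ B) (h : B ⟶ A) (he : e ≫ h = 𝟙 A) (a : A) :
    B.fromSpecResidueField (e a) ≫ h ≫ e = B.fromSpecResidueField (e a) := by
  haveI : IsImmersion e := by
    haveI : IsImmersion (e ≫ h) := by rw [he]; infer_instance
    exact IsImmersion.of_comp e h
  haveI : IsIso (e.residueFieldMap a) := by
    refine (ConcreteCategory.isIso_iff_bijective _).2 ⟨(e.residueFieldMap a).hom.injective, fun z => ?_⟩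
    obtain ⟨w, rfl⟩ := IsLocalRing.residue_surjective z
    obtain ⟨v, rfl⟩ := e.stalkMap_surjective a w
    exact ⟨IsLocalRing.residue _ v, IsLocalRing.ResidueField.map_residue _ _⟩
  rw [← cancel_epi (Spec.map (e.residueFieldMap a)), Scheme.Hom.SpecMap_residueFieldMap_fromSpecResidueField_assoc,
    reassoc_of% he, Scheme.Hom.SpecMap_residueFieldMap_fromSpecResidueField]

theorem eq_one_iff_triv {X : Scheme.{u}} {L : X.Modules} (hL : PicF.IsInvertible L) :
    cls hL = 1 ↔ CubeLib.Triv L :=
  (cls_eq_one hL).trans CubeLib.triv_iff.symm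

variable {S : Scheme.{u}} {X : Over S}

/-- Base change squares along `XTmap`. -/
theorem isPullback_XTmap (f : X.left ⟶ S) {T T' : Over S} (g : T' ⟶ T) :
    IsPullback (PicF.XTmap f g) (PicF.XTproj f T') (PicF.XTproj f T) g.left := by
  refine IsPullback.of_right ?_ (by simp [PicF.XTmap]) (IsPullback.of_hasPullback f T.hom)
  rw [show PicF.XTmap f g ≫ pullback.fst f T.hom = pullback.fst f T'.hom by simp [PicF.XTmap], Over.w g]
  exact IsPullback.of_hasPullback f T'.hom

theorem XTmap_comp (f : X.left ⟶ S) {T T' T'' : Over S} (g : T' ⟶ T) (h : T'' ⟶ T') :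
    PicF.XTmap f h ≫ PicF.XTmap f g = PicF.XTmap f (h ≫ g) := by
  apply pullback.hom_ext <;> simp [PicF.XTmap]

theorem bcMap_XTmap {Y : Over S} (a : Y ⟶ X) {T T' : Over S} (g : T' ⟶ T) :
    AbDual.bcMap a T' ≫ PicF.XTmap X.hom g = PicF.XTmap Y.hom g ≫ AbDual.bcMap a T := by
  apply pullback.hom_ext <;> simp [PicF.XTmap, AbDual.bcMap]

theorem bcMap_fst {Y : Over S} (a : Y ⟶ X) (T : Over S) :
    AbDual.bcMap a T ≫ pullback.fst X.hom T.hom = pullback.fst Y.hom T.hom ≫ a.left := by
  simp [AbDual.bcMap]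

theorem bcMap_snd {Y : Over S} (a : Y ⟶ X) (T : Over S) :
    AbDual.bcMap a T ≫ PicF.XTproj X.hom T = PicF.XTproj Y.hom T := by
  simp [AbDual.bcMap]

variable [GrpObj X]

variable (X) in
/-- The unit section over `T`. -/
abbrev eT (T : Over S) : T.left ⟶ PicF.XT X.hom T := PicF.secT X.hom η[X].left (Over.w η[X]) T

theorem eT_fst (T : Over S) : eT X T ≫ pullback.fst X.hom T.hom = T.hom ≫ η[X].left := pullback.lift_fst _ _ _

theorem eT_snd (T : Over S) : eT X T ≫ PicF.XTproj X.hom T = 𝟙 _ := pullback.lift_snd _ _ _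

/-- The defect of primitivity of a class. -/
def dfc (T : Over S) (c : Pic (PicF.XT X.hom T)) : Pic (PicF.XT (X ⊗ X).hom T) :=
  pull (AbDual.bcMap μ[X] T) c * pull (PicF.XTproj (X ⊗ X).hom T ≫ eT X T) c *
    (pull (AbDual.bcMap (fst X X) T) c * pull (AbDual.bcMap (snd X X) T) c)⁻¹

theorem dfc_eq_one_iff (T : Over S) (c : Pic (PicF.XT X.hom T)) :
    dfc T c = 1 ↔ pull (AbDual.bcMap μ[X] T) c * pull (PicF.XTproj (X ⊗ X).hom T ≫ eT X T) c =
      pull (AbDual.bcMap (fst X X) T) c * pull (AbDual.bcMap (snd X X) T) c :=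
  mul_inv_eq_one

theorem pull_dfc {T T' : Over S} (g : T' ⟶ T) (c : Pic (PicF.XT X.hom T)) :
    pull (PicF.XTmap (X ⊗ X).hom g) (dfc T c) = dfc T' (pull (PicF.XTmap X.hom g) c) := by
  have h : PicF.XTmap (X ⊗ X).hom g ≫ PicF.XTproj (X ⊗ X).hom T ≫ eT X T =
      (PicF.XTproj (X ⊗ X).hom T' ≫ eT X T') ≫ PicF.XTmap X.hom g := by
    apply pullback.hom_ext <;> simp [PicF.XTmap, eT, PicF.secT]
    exact (congrArg _ (Category.id_comp _)).symm
  simp only [dfc, map_mul, map_inv, ← pull_comp, bcMap_XTmap, h]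

/-- Trivial on a fibre implies no defect on that fibre. -/
theorem pull_fiberι_dfc {T : Over S} (c : Pic (PicF.XT X.hom T)) (z : T.left)
    (hc : pull ((PicF.XTproj X.hom T).fiberι z) c = 1) :
    pull ((PicF.XTproj (X ⊗ X).hom T).fiberι z) (dfc T c) = 1 := by
  let π := PicF.XTproj (X ⊗ X).hom T
  have key : ∀ a : PicF.XT (X ⊗ X).hom T ⟶ PicF.XT X.hom T, a ≫ PicF.XTproj X.hom T = π →
      pull (π.fiberι z ≫ a) c = 1 := fun a ha => by
    let l : π.fiber z ⟶ (PicF.XTproj X.hom T).fiber z :=
      pullback.lift (π.fiberι z ≫ a) (π.fiberToSpecResidueField z) (by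
        rw [Category.assoc, ha]; exact pullback.condition)
    rw [show π.fiberι z ≫ a = l ≫ (PicF.XTproj X.hom T).fiberι z from (pullback.lift_fst _ _ _).symm, pull_comp,
      hc, map_one]
  simp only [dfc, map_mul, map_inv, ← pull_comp]
  rw [key _ (bcMap_snd _ _), key _ (bcMap_snd _ _), key _ (bcMap_snd _ _),
    key (π ≫ eT X T) (by rw [Category.assoc, eT_snd, Category.comp_id])]
  simp

variable [IsProper X.hom] [Flat X.hom] [GeometricallyIntegral X.hom]

/-- A defect trivial on all fibres over a locally Noetherian base, or on one fibre over a connected one, is trivial. -/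
theorem dfc_eq_one_of_fibres (T : Over S) [IsLocallyNoetherian T.left] (c : Pic (PicF.XT X.hom T))
    (h : (∀ z : T.left, pull ((PicF.XTproj (X ⊗ X).hom T).fiberι z) (dfc T c) = 1) ∨
      ConnectedSpace T.left ∧ ∃ z : T.left, pull ((PicF.XTproj (X ⊗ X).hom T).fiberι z) (dfc T c) = 1) :
    dfc T c = 1 := by
  let f := PicF.XTproj X.hom T
  haveI : IsProper f := MorphismProperty.pullback_snd _ _ inferInstance
  haveI : Flat f := MorphismProperty.pullback_snd _ _ inferInstance
  haveI : GeometricallyIntegral f := MorphismProperty.pullback_snd _ _ inferInstance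
  let F : Over S := Over.mk (f ≫ T.hom)
  let A : F ⟶ X := Over.homMk (pullback.fst X.hom T.hom) pullback.condition
  let PO : Over S := Over.mk ((pullback.fst f f ≫ f) ≫ T.hom)
  let a : PO ⟶ X := Over.homMk (pullback.fst f f ≫ pullback.fst X.hom T.hom) (by
    show (pullback.fst f f ≫ pullback.fst X.hom T.hom) ≫ X.hom = (pullback.fst f f ≫ f) ≫ T.hom
    rw [Category.assoc, pullback.condition, Category.assoc])
  let b : PO ⟶ X := Over.homMk (pullback.snd f f ≫ pullback.fst X.hom T.hom) (by
    show (pullback.snd f f ≫ pullback.fst X.hom T.hom) ≫ X.hom = (pullback.fst f f ≫ f) ≫ T.hom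
    rw [Category.assoc, pullback.condition, pullback.condition (f := f) (g := f), Category.assoc])
  let Φ : pullback f f ⟶ PicF.XT (X ⊗ X).hom T :=
    pullback.lift (lift a b).left (pullback.fst f f ≫ f) (Over.w (lift a b))
  let Ψ : PicF.XT (X ⊗ X).hom T ⟶ pullback f f :=
    pullback.lift (AbDual.bcMap (fst X X) T) (AbDual.bcMap (snd X X) T) (by rw [bcMap_snd, bcMap_snd])
  have hΦ : ∀ (g : X ⊗ X ⟶ X), Φ ≫ AbDual.bcMap g T ≫ pullback.fst X.hom T.hom = (lift a b ≫ g).left := fun g => by
    rw [bcMap_fst, ← Category.assoc, pullback.lift_fst, Over.comp_left]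
  have hΦπ : Φ ≫ PicF.XTproj (X ⊗ X).hom T = pullback.fst f f ≫ f := pullback.lift_snd _ _ _
  have hΦ1 : Φ ≫ AbDual.bcMap (fst X X) T = pullback.fst f f := by
    apply pullback.hom_ext
    · rw [Category.assoc, hΦ, lift_fst]; rfl
    · rw [Category.assoc, bcMap_snd, hΦπ]
  have hΦ2 : Φ ≫ AbDual.bcMap (snd X X) T = pullback.snd f f := by
    apply pullback.hom_ext
    · rw [Category.assoc, hΦ, lift_snd]; rfl
    · rw [Category.assoc, bcMap_snd, hΦπ, pullback.condition]
  have hΨΦ : Ψ ≫ Φ = 𝟙 _ := by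
    apply pullback.hom_ext
    · rw [Category.id_comp, Category.assoc, pullback.lift_fst]
      apply pullback.hom_ext
      · rw [Category.assoc]
        show Ψ ≫ (lift a b ≫ fst X X).left = pullback.fst (X ⊗ X).hom T.hom ≫ (fst X X).left
        rw [lift_fst]
        show Ψ ≫ pullback.fst f f ≫ pullback.fst X.hom T.hom = _
        rw [← Category.assoc, pullback.lift_fst, bcMap_fst]
      · rw [Category.assoc]
        show Ψ ≫ (lift a b ≫ snd X X).left = pullback.fst (X ⊗ X).hom T.hom ≫ (snd X X).left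
        rw [lift_snd]
        show Ψ ≫ pullback.snd f f ≫ pullback.fst X.hom T.hom = _
        rw [← Category.assoc, pullback.lift_snd, bcMap_fst]
    · rw [Category.id_comp, Category.assoc, pullback.lift_snd, ← Category.assoc, pullback.lift_fst]
      exact bcMap_snd _ _
  let σ : PicF.XT X.hom T ⟶ pullback f f := pullback.lift (f ≫ eT X T) (𝟙 _) (by
    rw [Category.assoc, eT_snd, Category.comp_id, Category.id_comp])
  let τ : PicF.XT X.hom T ⟶ pullback f f := pullback.lift (𝟙 _) (f ≫ eT X T) (by
    rw [Category.assoc, eT_snd, Category.comp_id, Category.id_comp])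
  have hone : f ≫ eT X T ≫ pullback.fst X.hom T.hom = (1 : F ⟶ X).left := by
    rw [eT_fst, Hom.one_def, Over.comp_left, ← Category.assoc]; rfl
  let sO : F ⟶ PO := Over.homMk σ (by
    show σ ≫ (pullback.fst f f ≫ f) ≫ T.hom = f ≫ T.hom
    rw [pullback.condition (f := f) (g := f), ← Category.assoc, ← Category.assoc, pullback.lift_snd, Category.id_comp])
  let tO : F ⟶ PO := Over.homMk τ (by
    show τ ≫ (pullback.fst f f ≫ f) ≫ T.hom = f ≫ T.hom
    rw [← Category.assoc, ← Category.assoc, pullback.lift_fst, Category.id_comp])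
  have hsa : sO ≫ a = 1 := Over.OverMorphism.ext (by
    show σ ≫ pullback.fst f f ≫ pullback.fst X.hom T.hom = _
    rw [← Category.assoc, pullback.lift_fst, Category.assoc, hone])
  have hsb : sO ≫ b = A := Over.OverMorphism.ext (by
    show σ ≫ pullback.snd f f ≫ pullback.fst X.hom T.hom = _
    rw [← Category.assoc, pullback.lift_snd, Category.id_comp]; rfl)
  have hta : tO ≫ a = A := Over.OverMorphism.ext (by
    show τ ≫ pullback.fst f f ≫ pullback.fst X.hom T.hom = _
    rw [← Category.assoc, pullback.lift_fst, Category.id_comp]; rfl)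
  have htb : tO ≫ b = 1 := Over.OverMorphism.ext (by
    show τ ≫ pullback.snd f f ≫ pullback.fst X.hom T.hom = _
    rw [← Category.assoc, pullback.lift_snd, Category.assoc, hone])
  have hσm : σ ≫ Φ ≫ AbDual.bcMap μ[X] T = 𝟙 _ := by
    apply pullback.hom_ext
    · rw [Category.assoc, Category.assoc, hΦ, Category.id_comp]
      show (sO ≫ lift a b ≫ μ).left = A.left
      rw [← Hom.mul_def, MonObj.comp_mul, hsa, hsb, _root_.one_mul]
    · rw [Category.assoc, Category.assoc, bcMap_snd, hΦπ, ← Category.assoc, pullback.lift_fst, Category.assoc,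
        eT_snd, Category.comp_id, Category.id_comp]
  have hτm : τ ≫ Φ ≫ AbDual.bcMap μ[X] T = 𝟙 _ := by
    apply pullback.hom_ext
    · rw [Category.assoc, Category.assoc, hΦ, Category.id_comp]
      show (tO ≫ lift a b ≫ μ).left = A.left
      rw [← Hom.mul_def, MonObj.comp_mul, hta, htb, _root_.mul_one]
    · rw [Category.assoc, Category.assoc, bcMap_snd, hΦπ, ← Category.assoc, pullback.lift_fst, Category.id_comp]
  obtain ⟨M, hM, hMc⟩ := exists_cls (pull Φ (dfc T c))
  have hslice : ∀ s : PicF.XT X.hom T ⟶ pullback f f, s ≫ Φ ≫ AbDual.bcMap μ[X] T = 𝟙 _ → s ≫ pullback.fst f f ≫ f = f →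
      (s = σ ∨ s = τ) → CubeLib.Triv ((Scheme.Modules.pullback s).obj M) := fun s hm hf hs => by
    rw [← eq_one_iff_triv (isInvertible_pullback s hM), ← pull_cls s hM, hMc]
    simp only [dfc, map_mul, map_inv, ← pull_comp, hm, hΦ1, hΦ2]
    rw [reassoc_of% hΦπ, pull_id]
    rcases hs with rfl | rfl
    · simp only [σ, pullback.lift_fst, pullback.lift_snd, pullback.lift_fst_assoc, Category.assoc, pull_id]
      rw [show f ≫ eT X T ≫ f ≫ eT X T = f ≫ eT X T by rw [← Category.assoc (eT X T), eT_snd, Category.id_comp]]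
      rw [mul_inv_eq_one, _root_.mul_comm]
    · simp only [τ, pullback.lift_fst, pullback.lift_snd, pullback.lift_fst_assoc, Category.assoc, pull_id,
        Category.id_comp]
      rw [mul_inv_eq_one]
  have hfσ : σ ≫ pullback.fst f f ≫ f = f := by
    rw [← Category.assoc, pullback.lift_fst, Category.assoc, eT_snd, Category.comp_id]
  have hfτ : τ ≫ pullback.fst f f ≫ f = f := by
    rw [← Category.assoc, pullback.lift_fst, Category.id_comp]
  have hfib : ∀ z, pull ((PicF.XTproj (X ⊗ X).hom T).fiberι z) (dfc T c) = 1 →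
      CubeLib.Triv ((Scheme.Modules.pullback ((pullback.fst f f ≫ f).fiberι z)).obj M) := fun z hz => by
    rw [← eq_one_iff_triv (isInvertible_pullback _ hM), ← pull_cls _ hM, hMc, ← pull_comp]
    let l : (pullback.fst f f ≫ f).fiber z ⟶ (PicF.XTproj (X ⊗ X).hom T).fiber z :=
      pullback.lift ((pullback.fst f f ≫ f).fiberι z ≫ Φ) ((pullback.fst f f ≫ f).fiberToSpecResidueField z) (by
        rw [Category.assoc, hΦπ]; exact pullback.condition)
    rw [show (pullback.fst f f ≫ f).fiberι z ≫ Φ = l ≫ (PicF.XTproj (X ⊗ X).hom T).fiberι z from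
      (pullback.lift_fst _ _ _).symm, pull_comp, hz, map_one]
  have htriv : CubeLib.Triv M := by
    rcases h with h | ⟨hconn, z, hz⟩
    · exact CubeBaseLib.triv_of_forall_fibre f f (eT X T) (eT_snd T) (eT X T) (eT_snd T) σ (pullback.lift_fst _ _ _)
        (pullback.lift_snd _ _ _) τ (pullback.lift_fst _ _ _) (pullback.lift_snd _ _ _) hM
        (hslice σ hσm hfσ (.inl rfl)) (hslice τ hτm hfτ (.inr rfl)) fun z => hfib z (h z)
    · exact CubeBaseLib.triv_of_fibre f f (eT X T) (eT_snd T) (eT X T) (eT_snd T) σ (pullback.lift_fst _ _ _)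
        (pullback.lift_snd _ _ _) τ (pullback.lift_fst _ _ _) (pullback.lift_snd _ _ _) hM
        (hslice σ hσm hfσ (.inl rfl)) (hslice τ hτm hfτ (.inr rfl)) (hfib z hz)
  rw [← pull_id (dfc T c), ← hΨΦ, pull_comp, ← hMc, (eq_one_iff_triv hM).2 htriv, map_one]

/-- On a geometric fibre, algebraic equivalence to zero kills the defect. -/
theorem pull_dfc_eq_one_of_algEquivZero {T : Over S} {c : Pic (PicF.XT X.hom T)} {L : (PicF.XT X.hom T).Modules}
    (hL : PicF.IsInvertible L) (hc : cls hL = c) {Ω : Type u} [Field Ω]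
    (g : Spec (CommRingCat.of Ω) ⟶ T.left)
    (h : @Pic13.IsAlgEquivZero Ω _ (pullback (PicF.XTproj X.hom T) g) ⟨pullback.snd (PicF.XTproj X.hom T) g⟩
      ((Scheme.Modules.pullback (pullback.fst (PicF.XTproj X.hom T) g)).obj L)) :
    dfc (AbDual.ovr T g) (pull (PicF.XTmap X.hom (AbDual.ovrHom T g)) c) = 1 := by
  letI : (pullback (PicF.XTproj X.hom T) g).Over (Spec (CommRingCat.of Ω)) :=
    ⟨pullback.snd (PicF.XTproj X.hom T) g⟩
  obtain ⟨T₀, q, hconn, hlft, -, M, hM, t, t₀, ht, ht₀, ⟨eL⟩, ⟨eO⟩⟩ := h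
  let T' := AbDual.ovr T g
  let T'' : Over S := Over.mk (q ≫ g ≫ T.hom)
  let gq : T'' ⟶ T' := Over.homMk q rfl
  haveI := hlft
  haveI : IsLocallyNoetherian T''.left := LocallyOfFiniteType.isLocallyNoetherian q
  let hmap : PicF.XT X.hom T'' ⟶ Pic13.prodK Ω (pullback (PicF.XTproj X.hom T) g) q :=
    pullback.lift (pullback.lift (PicF.XTmap X.hom (gq ≫ AbDual.ovrHom T g)) (PicF.XTproj X.hom T'' ≫ q)
      (by rw [(isPullback_XTmap X.hom (gq ≫ AbDual.ovrHom T g)).w, Category.assoc]; rfl))
      (PicF.XTproj X.hom T'') (pullback.lift_snd _ _ _)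
  let c'' := pull hmap (cls hM)
  have h0 : dfc T'' c'' = 1 := by
    refine dfc_eq_one_of_fibres T'' c'' (.inr ⟨hconn, t₀ (IsLocalRing.closedPoint Ω), pull_fiberι_dfc c'' _ ?_⟩)
    let f'' := PicF.XTproj X.hom T''
    let j := f''.fiberι (t₀ (IsLocalRing.closedPoint Ω)) ≫ hmap
    have hj : j = (j ≫ pullback.fst _ _) ≫ Pic13.sliceAt Ω (pullback (PicF.XTproj X.hom T) g) q t₀ ht₀ := by
      apply pullback.hom_ext
      · simp [Pic13.sliceAt]
      · simp only [Category.assoc, Pic13.sliceAt, pullback.lift_snd]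
        rw [← Category.assoc (pullback.fst (pullback (PicF.XTproj X.hom T) g ↘ Spec (CommRingCat.of Ω)) q),
          pullback.condition]
        have e1 : j ≫ pullback.snd _ q = f''.fiberToSpecResidueField _ ≫ T₀.fromSpecResidueField _ := by
          show (f''.fiberι _ ≫ hmap) ≫ pullback.snd _ q = _
          rw [Category.assoc, pullback.lift_snd]
          exact pullback.condition
        simp only [← Category.assoc, e1]
        simp only [Category.assoc]
        rw [fromSpecResidueField_section t₀ q ht₀]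
    rw [show pull (f''.fiberι (t₀ (IsLocalRing.closedPoint Ω))) c'' = pull j (cls hM) from (pull_comp _ _ _).symm, hj,
      pull_comp, pull_cls, show cls (isInvertible_pullback _ hM) = 1 from (cls_eq_one _).2 ⟨eO⟩, map_one]
  let tO : T' ⟶ T'' := Over.homMk t (by
    show t ≫ q ≫ g ≫ T.hom = g ≫ T.hom
    rw [reassoc_of% ht])
  have h1 := congrArg (pull (PicF.XTmap (X ⊗ X).hom tO)) h0
  rw [map_one, pull_dfc] at h1
  refine Eq.trans (congrArg _ ?_) h1
  let i : PicF.XT X.hom T' ⟶ pullback (PicF.XTproj X.hom T) g :=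
    pullback.lift (PicF.XTmap X.hom (AbDual.ovrHom T g)) (PicF.XTproj X.hom T')
      (isPullback_XTmap X.hom (AbDual.ovrHom T g)).w
  have htg : tO ≫ gq = 𝟙 T' := Over.OverMorphism.ext ht
  have hsl : PicF.XTmap X.hom tO ≫ hmap = i ≫ Pic13.sliceAt Ω (pullback (PicF.XTproj X.hom T) g) q t ht := by
    apply pullback.hom_ext
    · simp only [hmap, Category.assoc, pullback.lift_fst, Pic13.sliceAt]
      apply pullback.hom_ext
      · simp only [i, Category.assoc, pullback.lift_fst, Category.comp_id]
        rw [XTmap_comp, ← Category.assoc, htg, Category.id_comp]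
      · simp only [i, Category.assoc, pullback.lift_snd, Category.comp_id]
        rw [← Category.assoc, (isPullback_XTmap X.hom tO).w, Category.assoc]
        exact (congrArg _ ht).trans (Category.comp_id _)
    · simp only [hmap, Category.assoc, pullback.lift_snd, Pic13.sliceAt, i]
      rw [(isPullback_XTmap X.hom tO).w]
      exact (pullback.lift_snd_assoc _ _ _ _).symm
  rw [← pull_comp, hsl, pull_comp, pull_cls, show cls (isInvertible_pullback _ hM) =
    cls (isInvertible_pullback (pullback.fst (PicF.XTproj X.hom T) g) hL) from (cls_eq_cls _ _).2 ⟨eL⟩, ← pull_cls _ hL,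
    ← pull_comp, pullback.lift_fst, hc]

/-- Primitivity of classes algebraically trivial on the geometric fibres, over a locally Noetherian base. -/
theorem dfc_eq_one [LocallyOfFinitePresentation X.hom] (T : Over S) [IsLocallyNoetherian T.left] {L : (PicF.XT X.hom T).Modules}
    (hL : PicF.IsInvertible L) (h : ∀ t : T.left, AbDual.IsAlgTrivialAt (PicF.XTproj X.hom T) L t) :
    dfc T (cls hL) = 1 := by
  refine dfc_eq_one_of_fibres T _ (.inl fun z => ?_)
  let π := PicF.XTproj (X ⊗ X).hom T
  let Ω := AlgebraicClosure (T.left.residueField z)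
  let g : Spec (CommRingCat.of Ω) ⟶ T.left :=
    Spec.map (CommRingCat.ofHom (algebraMap (T.left.residueField z) Ω)) ≫ T.left.fromSpecResidueField z
  have hg : Set.range g.base = {z} := by
    refine Set.eq_singleton_iff_unique_mem.2 ⟨⟨IsLocalRing.closedPoint Ω, T.left.fromSpecResidueField_apply z _⟩, ?_⟩
    rintro _ ⟨w, rfl⟩
    exact T.left.fromSpecResidueField_apply z _
  have h0 := pull_dfc_eq_one_of_algEquivZero hL rfl g (h z Ω g hg)
  rw [← pull_dfc] at h0
  let alg := Spec.map (CommRingCat.ofHom (algebraMap (T.left.residueField z) Ω))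
  let T' := AbDual.ovr T g
  let l : PicF.XT (X ⊗ X).hom T' ⟶ π.fiber z :=
    pullback.lift (PicF.XTmap (X ⊗ X).hom (AbDual.ovrHom T g)) (PicF.XTproj (X ⊗ X).hom T' ≫ alg) (by
      rw [(isPullback_XTmap (X := X ⊗ X) (X ⊗ X).hom (AbDual.ovrHom T g)).w, Category.assoc]; rfl)
  have hc : IsPullback l (PicF.XTproj (X ⊗ X).hom T') (π.fiberToSpecResidueField z) alg := by
    refine IsPullback.of_right ?_ (pullback.lift_snd _ _ _) (IsPullback.of_hasPullback π (T.left.fromSpecResidueField z))
    rw [pullback.lift_fst]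
    exact isPullback_XTmap (X := X ⊗ X) (X ⊗ X).hom (AbDual.ovrHom T g)
  haveI : GeometricallyIntegral (X ⊗ X).hom := by
    show GeometricallyIntegral (pullback.fst X.hom X.hom ≫ X.hom)
    haveI : GeometricallyIntegral (pullback.fst X.hom X.hom) := MorphismProperty.pullback_fst _ _ inferInstance
    exact CubeBaseLib.geometricallyIntegral_comp _ _
  haveI : IsProper (X ⊗ X).hom := by
    show IsProper (pullback.fst X.hom X.hom ≫ X.hom); infer_instance
  haveI : IsProper (π.fiberToSpecResidueField z) :=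
    MorphismProperty.pullback_snd _ _ (MorphismProperty.pullback_snd _ _ inferInstance)
  haveI : GeometricallyIntegral (π.fiberToSpecResidueField z) :=
    MorphismProperty.pullback_snd _ _ (MorphismProperty.pullback_snd _ _ inferInstance)
  haveI : IsIntegral (π.fiber z) := by
    haveI : Subsingleton ↥(Spec (T.left.residueField z)) :=
      inferInstanceAs (Subsingleton (PrimeSpectrum (T.left.residueField z)))
    exact GeometricallyIntegral.isIntegral_of_subsingleton (π.fiberToSpecResidueField z)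
  obtain ⟨M, hM, hMc⟩ := exists_cls (pull (π.fiberι z) (dfc T (cls hL)))
  rw [← hMc, eq_one_iff_triv]
  refine AVLib.triv_of_bc (K := T.left.residueField z) (K' := Ω) hc hM ?_
  rw [← eq_one_iff_triv (isInvertible_pullback _ hM), ← pull_cls _ hM, hMc, ← pull_comp,
    show l ≫ π.fiberι z = PicF.XTmap (X ⊗ X).hom (AbDual.ovrHom T g) from pullback.lift_fst _ _ _]
  exact h0

end Groth.Agent.AbDualLib
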