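import Groth.Agent.AbDualLib.Dual
import Groth.Agent.InvDescLib.RelPic
import Groth.Agent.AVLib.SeesawBase
import Groth.Agent.PicTrivLib.UnivApp

/-!
# Points of the dual as rigidified classes
-/

set_option autoImplicit false
set_option backward.isDefEq.respectTransparency false
set_option linter.style.haveILetI false
set_option linter.unusedSectionVars false

universe u

open CategoryTheory CategoryTheory.Limits MonoidalCategory CartesianMonoidalCategory MonObj AlgebraicGeometry
open Groth.Agent.PicLib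
open Groth.Agent.AmpleLib (isInvertible_pullback isInvertible_tensor)
open Groth.Agent.ParaFLib (isInvertible_structureModule exists_gen_nhd)

noncomputable section

namespace Groth.Agent.AbDualLib

variable {S : Scheme.{u}}

/-- An abelian scheme has constant functions universally. -/
theorem univConst [IsLocallyNoetherian S] (X : Over S) [IsProper X.hom] [Flat X.hom] [GeometricallyIntegral X.hom] :
    InvDescLib.UnivConst X.hom := fun T U =>
  PicTrivLib.isIso_app_univ X.hom (AVLib.bijective_fiber X.hom) T.left T.hom U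

/-- A surjective morphism locally of finite type has liftable geometric points. -/
theorem exists_lift_geometric {U T : Scheme.{u}} (u : U ⟶ T) [Surjective u] [LocallyOfFiniteType u] {Ω : Type u}
    [Field Ω] [IsAlgClosed Ω] (σ : Spec (CommRingCat.of Ω) ⟶ T) : ∃ τ : Spec (CommRingCat.of Ω) ⟶ U, τ ≫ u = σ := by
  let p := pullback.snd u σ
  haveI : LocallyOfFiniteType p := MorphismProperty.pullback_snd _ _ inferInstance
  haveI : Surjective p := MorphismProperty.pullback_snd _ _ inferInstance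
  haveI : JacobsonSpace ↥(pullback u σ) := LocallyOfFiniteType.jacobsonSpace p
  obtain ⟨z₀, -⟩ := p.surjective (IsLocalRing.closedPoint Ω)
  obtain ⟨z, -, hz⟩ := nonempty_inter_closedPoints (Z := (Set.univ : Set ↥(pullback u σ))) ⟨z₀, trivial⟩
    isClosed_univ.isLocallyClosed
  obtain ⟨⟨q, hq⟩, -⟩ := (pointEquivClosedPoint p).surjective ⟨z, hz⟩
  exact ⟨q ≫ pullback.fst u σ, by rw [Category.assoc, pullback.condition, reassoc_of% hq]⟩

variable {X Xt : Over S} {φX : ∀ T : Over S, PicF.Cl (PicF.XT X.hom T) → (T ⟶ Xt)}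

/-- Algebraic triviality on geometric fibres descends along coverings. -/
theorem isPZ_of_pull {T : Over S} {κ : Type u} {W : κ → Scheme.{u}} (v : ∀ i, W i ⟶ T.left)
    [Surjective (Sigma.desc v)] [LocallyOfFiniteType (Sigma.desc v)] {b : Pic (PicF.XT X.hom T)}
    (h : ∀ i, IsPZ X (AbDual.ovr T (v i)) (pull (PicF.XTmap X.hom (AbDual.ovrHom T (v i))) b)) : IsPZ X T b := by
  obtain ⟨L, hL, rfl⟩ := exists_cls b
  rw [isPZ_cls_iff]
  intro t Ω _ _ σ hσ
  obtain ⟨τ, hτ⟩ := exists_lift_geometric (Sigma.desc v) σ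
  obtain ⟨⟨i, w⟩, hw⟩ := (sigmaMk W).surjective (τ (IsLocalRing.closedPoint Ω))
  rw [sigmaMk_mk] at hw
  have hr : Set.range τ.base ⊆ Set.range (Sigma.ι W i).base := by
    rintro _ ⟨p, rfl⟩
    rw [Subsingleton.elim (α := PrimeSpectrum Ω) p (IsLocalRing.closedPoint Ω)]
    exact ⟨w, hw⟩
  let τ' := IsOpenImmersion.lift (Sigma.ι W i) τ hr
  have hτ' : τ' ≫ v i = σ := by
    rw [← Sigma.ι_desc v i, ← Category.assoc, IsOpenImmersion.lift_fac, hτ]
  have hi := h i
  rw [pull_cls, isPZ_cls_iff] at hi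
  have h0 := hi (τ' (IsLocalRing.closedPoint Ω)) Ω τ' (Set.eq_singleton_iff_unique_mem.2 ⟨⟨_, rfl⟩, by
    rintro _ ⟨p, rfl⟩
    exact congrArg τ'.base (Subsingleton.elim (α := PrimeSpectrum Ω) p (IsLocalRing.closedPoint Ω))⟩)
  let a := PicF.XTmap X.hom (AbDual.ovrHom T (v i))
  let l : pullback (PicF.XTproj X.hom T) σ ⟶ PicF.XT X.hom (AbDual.ovr T (v i)) :=
    (InvDescLib.isPullback_map (AbDual.ovrHom T (v i))).lift (pullback.fst _ _) (pullback.snd _ _ ≫ τ') (by
      rw [pullback.condition, Category.assoc]; exact congrArg _ hτ'.symm)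
  letI : (pullback (PicF.XTproj X.hom T) σ).Over (Spec (CommRingCat.of Ω)) :=
    ⟨pullback.snd (PicF.XTproj X.hom T) σ⟩
  let e : pullback (PicF.XTproj X.hom T) σ ⟶ pullback (PicF.XTproj X.hom (AbDual.ovr T (v i))) τ' :=
    pullback.lift l (pullback.snd _ _) (IsPullback.lift_snd _ _ _ _)
  letI : (pullback (PicF.XTproj X.hom (AbDual.ovr T (v i))) τ').Over (Spec (CommRingCat.of Ω)) :=
    ⟨pullback.snd (PicF.XTproj X.hom (AbDual.ovr T (v i))) τ'⟩
  refine algEquivZero_congr ?_ (algEquivZero_pullback e (pullback.lift_snd _ _ _) h0)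
  exact (Scheme.Modules.pullbackComp _ _).app _ ≪≫
    eqToIso (congrArg (fun m => (Scheme.Modules.pullback m).obj ((Scheme.Modules.pullback a).obj L))
      (pullback.lift_fst _ _ _)) ≪≫ (Scheme.Modules.pullbackComp _ _).app L ≪≫
    eqToIso (congrArg (fun m => (Scheme.Modules.pullback m).obj L) (IsPullback.lift_fst _ _ _ _))

variable [GrpObj X] [GrpObj Xt] [IsLocallyNoetherian S] [IsProper X.hom] [Flat X.hom] [GeometricallyIntegral X.hom]

/-- A rigidified class is determined by its point of the dual. -/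
theorem eq_of_ph_eq (hX : AbDual.IsDualAV Scheme.fppfPrecoverage X Xt φX) {T : Over S}
    {a a' : Pic (PicF.XT X.hom T)} (hp : IsPZ X T a) (hp' : IsPZ X T a') (h : pull (eT X T) a = 1)
    (h' : pull (eT X T) a' = 1) (e : ph φX T a = ph φX T a') : a = a' := by
  obtain ⟨R, hR, hRe⟩ := hX.relPic.locallyInjective T _ _ hp hp' e
  obtain ⟨κ, W, v, hv, h₁, h₂, h₃⟩ := InvDescLib.exists_small_cover hR
  haveI := SchDesc.IsFpqc.of_locallyOfFinitePresentation (Sigma.desc v)
  haveI := fun i => InvDescLib.isOpenImmersion_piece (f := X.hom) v i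
  refine div_eq_one.1 (InvDescLib.eq_one_of_pull_XTmap (univConst X) (σ := η[X].left) (hσ := Over.w η[X])
    (Sigma.desc v) ?_ ?_)
  · rw [map_div, h, h', div_self']
  · refine (InvDescLib.isDisjointUnion_pieces v).eq_one fun i => ?_
    rw [InvDescLib.pull_XTmap_XTmap _ _ (InvDescLib.pieceHom_comp v i), map_div,
      toCl_injective ((toCl_pull _ _).trans ((hRe (v i) (hv i)).trans (toCl_pull _ _).symm)), div_self']

/-- Every point of the dual comes from a rigidified class. -/
theorem exists_rigid_ph_eq (hX : AbDual.IsDualAV Scheme.fppfPrecoverage X Xt φX) {T : Over S} (g : T ⟶ Xt) :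
    ∃ b : Pic (PicF.XT X.hom T), IsPZ X T b ∧ pull (eT X T) b = 1 ∧ ph φX T b = g := by
  obtain ⟨R, hR, hRs⟩ := hX.relPic.locallySurjective T g
  obtain ⟨κ, W, v, hv, h₁, h₂, h₃⟩ := InvDescLib.exists_small_cover hR
  have hex : ∀ i, ∃ a : Pic (PicF.XT X.hom (AbDual.ovr T (v i))), IsPZ X _ a ∧
      pull (eT X _) a = 1 ∧ ph φX _ a = AbDual.ovrHom T (v i) ≫ g := fun i => by
    obtain ⟨c, ⟨L, rfl, hL, hz⟩, hφc⟩ := hRs (v i) (hv i)
    have hp : IsPZ X _ (cls hL) := (isPZ_cls_iff hL).2 hz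
    refine ⟨cls hL * pull (PicF.XTproj X.hom _) (pull (eT X _) (cls hL))⁻¹, isPZ_mul_base hp _, ?_, ?_⟩
    · rw [map_mul, InvDescLib.pull_pull_of_id (eT_snd _), mul_inv_cancel]
    · rw [ph_mul_base hX hp]
      exact hφc
  choose a ha₀ ha₁ ha₂ using hex
  haveI := fun i => InvDescLib.isOpenImmersion_piece (f := X.hom) v i
  obtain ⟨A, hA⟩ := (InvDescLib.isDisjointUnion_pieces (f := X.hom) v).exists_pic a
  let u := Sigma.desc v
  let U := AbDual.ovr T u
  have hU : IsPZ X U A := by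
    have hs : Surjective (Sigma.desc fun i => Sigma.ι W i) := ⟨fun y => by
      obtain ⟨⟨i, w⟩, hw⟩ := (sigmaMk W).surjective y
      refine ⟨Sigma.ι W i w, ?_⟩
      rw [← Scheme.Hom.comp_apply, Sigma.ι_desc]
      exact (sigmaMk_mk _ _ _).symm.trans hw⟩
    have hl : LocallyOfFiniteType (Sigma.desc fun i => Sigma.ι W i) :=
      IsZariskiLocalAtSource.sigmaDesc fun i => inferInstance
    refine @isPZ_of_pull _ X U _ W (fun i => Sigma.ι W i) hs hl _ fun i => ?_
    let k : AbDual.ovr U (Sigma.ι W i) ⟶ AbDual.ovr T (v i) := Over.homMk (𝟙 _) (by simp [U, u])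
    have hk : k ≫ InvDescLib.pieceHom v i = AbDual.ovrHom U (Sigma.ι W i) :=
      Over.OverMorphism.ext (Category.id_comp _)
    rw [← InvDescLib.pull_XTmap_XTmap _ _ hk, hA i]
    exact isPZ_pull_XTmap _ (ha₀ i)
  have hA₁ : pull (eT X U) A = 1 := (InvDescLib.isDisjointUnion_sigma W).eq_one fun i => by
    have h := InvDescLib.pull_secT_XTmap (σ := η[X].left) (hσ := Over.w η[X]) (InvDescLib.pieceHom v i) A
    rw [hA i] at h
    exact h.symm.trans (ha₁ i)
  have hA₂ : ph φX U A = AbDual.ovrHom T u ≫ g := by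
    apply Over.OverMorphism.ext
    refine Sigma.hom_ext _ _ fun i => ?_
    have h := ph_natural hX (InvDescLib.pieceHom v i) hU
    rw [hA i, ha₂ i, ← InvDescLib.pieceHom_comp v i, Category.assoc] at h
    exact (congrArg Over.Hom.left h).symm
  let k₁ := AbDual.ovrHom U (pullback.fst u u)
  let k₂ : AbDual.ovr U (pullback.fst u u) ⟶ U :=
    Over.homMk (pullback.snd u u) (pullback.condition_assoc T.hom).symm
  have hk : k₁ ≫ AbDual.ovrHom T u = k₂ ≫ AbDual.ovrHom T u := Over.OverMorphism.ext pullback.condition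
  have hglue : pull (PicF.XTmap X.hom k₁) A = pull (PicF.XTmap X.hom k₂) A :=
    eq_of_ph_eq hX (isPZ_pull_XTmap _ hU) (isPZ_pull_XTmap _ hU) (InvDescLib.rigid_XTmap _ hA₁)
      (InvDescLib.rigid_XTmap _ hA₁) (by rw [ph_natural hX _ hU, ph_natural hX _ hU, hA₂, reassoc_of% hk])
  obtain ⟨b, ⟨hb, hb'⟩, -⟩ :=
    InvDescLib.existsUnique_rig η[X].left (Over.w η[X]) (univConst X) T u A hA₁ hglue
  have hbz : IsPZ X T b := isPZ_of_pull v fun i => by
    rw [← InvDescLib.pull_XTmap_XTmap _ _ (InvDescLib.pieceHom_comp v i), hb', hA i]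
    exact ha₀ i
  haveI : SchDesc.IsFpqc u := SchDesc.IsFpqc.of_locallyOfFinitePresentation u
  have hbU : AbDual.ovrHom T u ≫ ph φX T b = AbDual.ovrHom T u ≫ g := by rw [← ph_natural hX _ hbz, hb', hA₂]
  exact ⟨b, hbz, hb, Over.OverMorphism.ext ((cancel_epi u).1 (congrArg Over.Hom.left hbU))⟩

/-- Rigidified classes in `Pic⁰` are primitive over any base. -/
theorem dfc_eq_one_of_rigid [LocallyOfFinitePresentation X.hom] [LocallyOfFiniteType Xt.hom]
    (hX : AbDual.IsDualAV Scheme.fppfPrecoverage X Xt φX) {T : Over S} {c : Pic (PicF.XT X.hom T)}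
    (hc : IsPZ X T c) (hr : pull (eT X T) c = 1) : dfc T c = 1 := by
  obtain ⟨P, hP, hP₁, hP₂⟩ := exists_rigid_ph_eq hX (𝟙 Xt)
  haveI : IsLocallyNoetherian Xt.left := LocallyOfFiniteType.isLocallyNoetherian Xt.hom
  have e : c = pull (PicF.XTmap X.hom (ph φX T c)) P :=
    eq_of_ph_eq hX hc (isPZ_pull_XTmap _ hP) hr (InvDescLib.rigid_XTmap _ hP₁) (by
      rw [ph_natural hX _ hP, hP₂, Category.comp_id])
  obtain ⟨M, hM, rfl⟩ := exists_cls P
  rw [e, ← pull_dfc, dfc_eq_one Xt hM ((isPZ_cls_iff hM).1 hP), map_one]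

end Groth.Agent.AbDualLib
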